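import Groth.Prelude.Def_QuadSing
import Groth.Prelude.Def_LefPen
import Groth.Prelude.Def_VanCyc
import Groth.Agent.Lefpen.H703.NondegQuadCrit
import Groth.Agent.Vancyc.H689.PSPow
import Groth.Agent.CurvesB.CplMap

/-!
# Comparison of the two notions of ordinary quadratic singularity

* `quadOrd_of_nondegQuad`: the degree-two part of a power series with non-degenerate quadratic part is ordinary;
* `isOrdQuadSing_of_lefPen`: `LefPen.IsOrdQuadSing k m g y` implies `VanCyc.IsOrdQuadSing k O_{Y,y} m`;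
* `isOrdQuadSing_of_semilinear`: invariance under isomorphisms semilinear over an isomorphism of fields;
* `isOrdQuadPt_of_isAlgClosed`: over an algebraically closed field `IsOrdQuadSing` implies `IsOrdQuadPt`.
-/

set_option autoImplicit false
universe u

open IsLocalRing AlgebraicGeometry CategoryTheory

open scoped TensorProduct

namespace Groth.Agent.Lefpen.H370.OrdQuadConv

section Form

variable {k : Type u} [Field k] {N : ℕ}

theorem eval_pderiv_quadPoly (a : Fin N → Fin N → k) (v : Fin N → k) (l : Fin N) :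
    MvPolynomial.eval v (MvPolynomial.pderiv l (VanCyc.quadPoly a)) =
      (VanCyc.polarMatrix a).mulVec v l := by
  have h1 : MvPolynomial.eval v (MvPolynomial.pderiv l (VanCyc.quadPoly a)) =
      ∑ i : Fin N, ∑ j : Fin N, ((if i = l then (if i ≤ j then a i j * v j else 0) else 0) +
        (if j = l then (if i ≤ j then a i j * v i else 0) else 0)) := by
    unfold VanCyc.quadPoly
    rw [map_sum, map_sum]
    refine Finset.sum_congr rfl fun i _ => ?_
    rw [map_sum, map_sum]
    refine Finset.sum_congr rfl fun j _ => ?_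
    by_cases hij : i ≤ j
    · simp only [if_pos hij]
      rw [Derivation.leibniz, Derivation.leibniz, MvPolynomial.pderiv_C, MvPolynomial.pderiv_X,
        MvPolynomial.pderiv_X]
      simp only [smul_eq_mul, map_add, map_mul, MvPolynomial.eval_X, MvPolynomial.eval_C, mul_zero,
        add_zero, Pi.single_apply]
      by_cases h1 : l = j <;> by_cases h2 : l = i
      · subst h1; subst h2; simp; ring
      · have h2' : ¬ i = l := fun h => h2 h.symm
        subst h1; simp [h2']
      · have h1' : ¬ j = l := fun h => h1 h.symm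
        subst h2; simp [h1']; ring
      · have h1' : ¬ j = l := fun h => h1 h.symm
        have h2' : ¬ i = l := fun h => h2 h.symm
        simp [h1', h2']
    · simp [if_neg hij]
  rw [h1]
  simp only [Finset.sum_add_distrib]
  have h2 : (∑ i : Fin N, ∑ j : Fin N, if i = l then (if i ≤ j then a i j * v j else 0) else 0) =
      ∑ j : Fin N, (if l ≤ j then a l j else 0) * v j := by
    rw [Finset.sum_comm]
    refine Finset.sum_congr rfl fun j _ => ?_
    rw [Finset.sum_ite_eq' Finset.univ l]
    simp only [Finset.mem_univ, if_true, ite_mul, zero_mul]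
  have h3 : (∑ i : Fin N, ∑ j : Fin N, if j = l then (if i ≤ j then a i j * v i else 0) else 0) =
      ∑ j : Fin N, (if j ≤ l then a j l else 0) * v j := by
    refine Finset.sum_congr rfl fun j _ => ?_
    rw [Finset.sum_ite_eq' Finset.univ l]
    simp only [Finset.mem_univ, if_true, ite_mul, zero_mul]
  rw [h2, h3, ← Finset.sum_add_distrib, Matrix.mulVec, dotProduct]
  refine Finset.sum_congr rfl fun j _ => ?_
  rw [Groth.Agent.Vancyc.H689.QuadTab.polarMatrix_apply]
  ring

/-- the degree two part of a power series as a polynomial -/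
theorem eq_quadPoly {m : ℕ} {Q : MvPowerSeries (Fin (m + 1)) k} {Q₂ : LefPen.Form m k 2}
    (h : LefPen.IsQuadPart k Q Q₂) : Q₂.1 = VanCyc.quadPoly (VanCyc.quadPart Q) := by
  have hQ : Q₂.1.IsHomogeneous 2 := (MvPolynomial.mem_homogeneousSubmodule _ _).1 Q₂.2
  ext e
  by_cases he : e.degree = 2
  · rw [h e he]
    obtain ⟨i, j, hij, rfl⟩ := Groth.Agent.Vancyc.H689.PSPow.exists_pair_of_degree_two he
    rw [Groth.Agent.Vancyc.H689.PSPow.coeff_quadPoly_pair _ hij]
    unfold VanCyc.quadPart
    rcases hij.eq_or_lt with h1 | h1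
    · subst h1
      rw [if_pos rfl, ← Finsupp.single_add]
    · rw [if_neg h1.ne, if_pos h1]
  · rw [Groth.Agent.Vancyc.H689.PSPow.coeff_quadPoly_of_ne _ _ he]
    exact hQ.coeff_eq_zero he

theorem noLowTerms {N : ℕ} {Q : MvPowerSeries (Fin N) k} (h : LefPen.StartsInDegTwo k Q) :
    VanCyc.NoLowTerms Q := by
  refine ⟨?_, fun i => ?_⟩
  · rw [← MvPowerSeries.coeff_zero_eq_constantCoeff_apply]
    exact h 0 (by simp)
  · exact h _ (by rw [Finsupp.degree_single]; norm_num)

theorem ordQuadSeries [IsAlgClosed k] {m : ℕ} {Q : MvPowerSeries (Fin (m + 1)) k} {Q₂ : LefPen.Form m k 2}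
    (h1 : LefPen.StartsInDegTwo k Q) (h2 : LefPen.IsQuadPart k Q Q₂) (h3 : LefPen.NondegQuad k Q₂) :
    VanCyc.OrdQuadSeries Q := by
  refine ⟨noLowTerms h1, fun v hv hp => ?_⟩
  by_contra hv0
  have h4 := ((Groth.Agent.Lefpen.H703.NondegQuadCrit.nondegQuad_iff Q₂).1 h3).2 v hv0
  rw [eq_quadPoly h2] at h4
  rcases h4 with h4 | ⟨l, h4⟩
  · apply h4
    have h5 := Groth.Agent.Vancyc.H689.PSPow.aeval_quadPoly (S := k) (VanCyc.quadPart Q) v
    have h6 : MvPolynomial.aeval v (VanCyc.quadPoly (VanCyc.quadPart Q)) =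
        MvPolynomial.eval v (VanCyc.quadPoly (VanCyc.quadPart Q)) := by
      rw [← MvPolynomial.coe_aeval_eq_eval]
      rfl
    exact h6.symm.trans (h5.trans hv)
  · apply h4
    rw [eval_pderiv_quadPoly, hp]
    rfl

end Form

section Transport

/-- Transport of `QuadOrd` along a field isomorphism. -/
theorem quadOrd_map {k k' : Type u} [Field k] [Field k'] (σ : k ≃+* k') {N : ℕ}
    {a : Fin N → Fin N → k} (h : VanCyc.QuadOrd a) : VanCyc.QuadOrd (fun i j => σ (a i j)) := by
  intro v hv hp
  have h1 : VanCyc.quadEval a (fun i => σ.symm (v i)) = 0 := by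
    apply σ.injective
    rw [map_zero, ← hv, VanCyc.quadEval, VanCyc.quadEval, map_sum]
    refine Finset.sum_congr rfl fun i _ => ?_
    rw [map_sum]
    refine Finset.sum_congr rfl fun j _ => ?_
    split_ifs
    · rw [map_mul, map_mul, σ.apply_symm_apply, σ.apply_symm_apply]
    · exact map_zero σ
  have h2 : (VanCyc.polarMatrix a).mulVec (fun i => σ.symm (v i)) = 0 := by
    funext l
    apply σ.injective
    have h3 := congrFun hp l
    rw [Pi.zero_apply, map_zero]
    rw [Pi.zero_apply] at h3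
    rw [← h3, Matrix.mulVec, Matrix.mulVec, dotProduct, dotProduct, map_sum]
    refine Finset.sum_congr rfl fun j _ => ?_
    rw [map_mul, σ.apply_symm_apply]
    congr 1
    rw [VanCyc.polarMatrix, VanCyc.polarMatrix]
    split_ifs
    · rw [map_mul, map_ofNat]
    · rfl
    · rfl
  have h4 := h _ h1 h2
  funext i
  have h5 := congrFun h4 i
  apply σ.symm.injective
  rw [Pi.zero_apply, map_zero]
  exact h5

theorem ordQuadSeries_map {k k' : Type u} [Field k] [Field k'] (σ : k ≃+* k') {N : ℕ}
    {f : MvPowerSeries (Fin N) k} (h : VanCyc.OrdQuadSeries f) :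
    VanCyc.OrdQuadSeries (MvPowerSeries.map (σ : k →+* k') f) := by
  refine ⟨⟨?_, fun i => ?_⟩, ?_⟩
  · rw [MvPowerSeries.constantCoeff_map, h.1.1, map_zero]
  · rw [MvPowerSeries.coeff_map, h.1.2 i, map_zero]
  · have h1 : VanCyc.quadPart (MvPowerSeries.map (σ : k →+* k') f) =
        fun i j => σ (VanCyc.quadPart f i j) := by
      funext i j
      rw [VanCyc.quadPart, VanCyc.quadPart]
      split_ifs
      · rw [MvPowerSeries.coeff_map]; rfl
      · rw [MvPowerSeries.coeff_map]; rfl
      · exact (map_zero σ).symm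
    rw [h1]
    exact quadOrd_map σ h.2

/-- The isomorphism of power series rings induced by an isomorphism of coefficients. -/
noncomputable def psEquiv {k k' : Type u} [Field k] [Field k'] (σ : k ≃+* k') (N : ℕ) :
    MvPowerSeries (Fin N) k ≃+* MvPowerSeries (Fin N) k' :=
  RingEquiv.ofRingHom (MvPowerSeries.map (σ : k →+* k')) (MvPowerSeries.map (σ.symm : k' →+* k))
    (by
      apply RingHom.ext
      intro f
      ext e
      rw [RingHom.comp_apply, MvPowerSeries.coeff_map, MvPowerSeries.coeff_map]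
      exact σ.apply_symm_apply _)
    (by
      apply RingHom.ext
      intro f
      ext e
      rw [RingHom.comp_apply, MvPowerSeries.coeff_map, MvPowerSeries.coeff_map]
      exact σ.symm_apply_apply _)

theorem psEquiv_apply {k k' : Type u} [Field k] [Field k'] (σ : k ≃+* k') (N : ℕ)
    (f : MvPowerSeries (Fin N) k) : psEquiv σ N f = MvPowerSeries.map (σ : k →+* k') f := rfl

/-- Transport of `IsOrdQuadSing` along isomorphisms semilinear over an isomorphism of fields. -/
theorem isOrdQuadSing_of_semilinear {k k' : Type u} [Field k] [Field k'] (σ : k ≃+* k')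
    {O O' : Type u} [CommRing O] [IsLocalRing O] [CommRing O'] [IsLocalRing O'] [Algebra k O]
    [Algebra k' O'] (e : O ≃+* O') (he : ∀ c, e (algebraMap k O c) = algebraMap k' O' (σ c)) {n : ℕ}
    (h : VanCyc.IsOrdQuadSing k O n) : VanCyc.IsOrdQuadSing k' O' n := by
  obtain ⟨f, hf, ⟨e1⟩⟩ := h
  refine ⟨psEquiv σ (n + 1) f, ordQuadSeries_map σ hf, ⟨?_⟩⟩
  have hsp : Ideal.span {psEquiv σ (n + 1) f} =
      Ideal.map (psEquiv σ (n + 1) : MvPowerSeries (Fin (n + 1)) k →+* MvPowerSeries (Fin (n + 1)) k')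
        (Ideal.span {f}) := by
    rw [Ideal.map_span, Set.image_singleton]; rfl
  let E : AdicCompletion (maximalIdeal O') O' ≃+*
      (MvPowerSeries (Fin (n + 1)) k' ⧸ Ideal.span {psEquiv σ (n + 1) f}) :=
    ((Groth.Agent.CurvesB.CplMap.congrLocal e).symm.trans e1.toRingEquiv).trans
      (Ideal.quotientEquiv (Ideal.span {f}) (Ideal.span {psEquiv σ (n + 1) f}) (psEquiv σ (n + 1)) hsp)
  refine AlgEquiv.ofRingEquiv (f := E) fun c' => ?_
  obtain ⟨c, rfl⟩ := σ.surjective c'
  have h1 : algebraMap k' (AdicCompletion (maximalIdeal O') O') (σ c) =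
      Groth.Agent.CurvesB.CplMap.congrLocal e
        (algebraMap k (AdicCompletion (maximalIdeal O) O) c) := by
    rw [IsScalarTower.algebraMap_apply k O (AdicCompletion (maximalIdeal O) O),
      Groth.Agent.CurvesB.CplMap.congrLocal_algebraMap,
      IsScalarTower.algebraMap_apply k' O' (AdicCompletion (maximalIdeal O') O'), he]
  rw [h1]
  change Ideal.quotientEquiv (Ideal.span {f}) (Ideal.span {psEquiv σ (n + 1) f}) (psEquiv σ (n + 1)) hsp
    (e1 ((Groth.Agent.CurvesB.CplMap.congrLocal e).symm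
    (Groth.Agent.CurvesB.CplMap.congrLocal e _))) = _
  rw [RingEquiv.symm_apply_apply, e1.commutes]
  change Ideal.Quotient.mk _ (psEquiv σ (n + 1) (MvPowerSeries.C c)) =
    Ideal.Quotient.mk _ (MvPowerSeries.C (σ c))
  have h2 : psEquiv σ (n + 1) (MvPowerSeries.C c) = MvPowerSeries.C (σ c) :=
    MvPowerSeries.map_C (σ : k →+* k') c
  rw [h2]

/-- Over an algebraically closed field the geometric notion is implied by the absolute one. -/
theorem isOrdQuadPt_of_isOrdQuadSing {κ : Type u} [Field κ] [IsAlgClosed κ] {O : Type u} [CommRing O]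
    [IsLocalRing O] (φ : κ →+* O) {n : ℕ}
    (h : letI := φ.toAlgebra; VanCyc.IsOrdQuadSing κ O n) : VanCyc.IsOrdQuadPt φ n := by
  let _ := φ.toAlgebra
  intro M hM
  have hb : Function.Bijective (algebraMap κ (AlgebraicClosure κ)) :=
    IsAlgClosed.algebraMap_bijective_of_isIntegral
  let σ : κ ≃+* AlgebraicClosure κ := RingEquiv.ofBijective _ hb
  let e0 : O ≃ₐ[κ] AlgebraicClosure κ ⊗[κ] O :=
    (Algebra.TensorProduct.lid κ O).symm.trans
      (Algebra.TensorProduct.congr (AlgEquiv.ofBijective (Algebra.ofId κ (AlgebraicClosure κ)) hb)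
        AlgEquiv.refl)
  have hloc : IsLocalRing (AlgebraicClosure κ ⊗[κ] O) := e0.toRingEquiv.isLocalRing
  have hM' : M = maximalIdeal (AlgebraicClosure κ ⊗[κ] O) := eq_maximalIdeal hM
  have hu : ∀ x ∈ M.primeCompl, IsUnit x := by
    intro x hx
    have h1 : x ∉ maximalIdeal (AlgebraicClosure κ ⊗[κ] O) := by
      rw [← hM']
      exact hx
    rwa [mem_maximalIdeal, mem_nonunits_iff, not_not] at h1
  let e2 : (AlgebraicClosure κ ⊗[κ] O) ≃ₐ[AlgebraicClosure κ ⊗[κ] O] Localization.AtPrime M :=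
    IsLocalization.atUnits (AlgebraicClosure κ ⊗[κ] O) M.primeCompl hu
  refine isOrdQuadSing_of_semilinear σ (e0.toRingEquiv.trans e2.toRingEquiv) (fun c => ?_) h
  change e2 (e0 (algebraMap κ O c)) = _
  rw [e0.commutes]
  change e2 (algebraMap κ (AlgebraicClosure κ ⊗[κ] O) c) =
    algebraMap (AlgebraicClosure κ) (Localization.AtPrime M) (algebraMap κ (AlgebraicClosure κ) c)
  rw [IsScalarTower.algebraMap_apply (AlgebraicClosure κ) (AlgebraicClosure κ ⊗[κ] O)
    (Localization.AtPrime M), ← IsScalarTower.algebraMap_apply κ (AlgebraicClosure κ)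
    (AlgebraicClosure κ ⊗[κ] O)]
  exact e2.commutes _

end Transport

section Scheme

variable {k : Type u} [Field k]

/-- The notion of the pencil rows implies the notion of the vanishing cycle rows. -/
theorem isOrdQuadSing_of_lefPen [IsAlgClosed k] {m : ℕ} {Y : Scheme.{u}}
    {g : Y ⟶ Spec (CommRingCat.of k)} {y : Y} (h : LefPen.IsOrdQuadSing k m g y) :
    letI := (LefPen.toStalk k g y).toAlgebra
    VanCyc.IsOrdQuadSing k (Y.presheaf.stalk y) m := by
  let _ := (LefPen.toStalk k g y).toAlgebra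
  obtain ⟨-, Q, Q₂, e, he, h1, h2, h3⟩ := h
  refine ⟨Q, ordQuadSeries h1 h2 h3, ⟨AlgEquiv.ofRingEquiv (f := e) fun c => ?_⟩⟩
  have h4 : algebraMap k (AdicCompletion (maximalIdeal (Y.presheaf.stalk y)) (Y.presheaf.stalk y)) c =
      algebraMap (Y.presheaf.stalk y) _ (LefPen.toStalk k g y c) :=
    IsScalarTower.algebraMap_apply k (Y.presheaf.stalk y) _ c
  rw [h4, he]
  rfl

/-- Ordinary quadratic points of a scheme isomorphic, over an isomorphism of the base fields, to a scheme with an
ordinary quadratic singularity. -/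
theorem isOrdQuadPt_of_lefPen [IsAlgClosed k] {κ : Type u} [Field κ] (σ : k ≃+* κ) {m : ℕ}
    {Y Z : Scheme.{u}} {g : Y ⟶ Spec (CommRingCat.of k)} {g' : Z ⟶ Spec (CommRingCat.of κ)}
    (φ : Z ≅ Y) (hφ : φ.hom ≫ g = g' ≫ Spec.map (CommRingCat.ofHom (σ : k →+* κ))) (z : Z)
    (h : LefPen.IsOrdQuadSing k m g (φ.hom z)) : VanCyc.IsOrdQuadPt (VanCyc.resHom g' z) m := by
  have : IsAlgClosed κ := IsAlgClosed.of_ringEquiv k κ σ
  have h1 := isOrdQuadSing_of_lefPen h
  apply isOrdQuadPt_of_isOrdQuadSing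
  let _ := (LefPen.toStalk k g (φ.hom z)).toAlgebra
  let _ := (VanCyc.resHom g' z).toAlgebra
  let e : Y.presheaf.stalk (φ.hom z) ≃+* Z.presheaf.stalk z :=
    (asIso (φ.hom.stalkMap z)).commRingCatIsoToRingEquiv
  refine isOrdQuadSing_of_semilinear σ e (fun c => ?_) h1
  have key : (Scheme.ΓSpecIso (CommRingCat.of k)).inv ≫ g.appTop ≫
      Y.presheaf.germ ⊤ (φ.hom z) trivial ≫ φ.hom.stalkMap z =
      CommRingCat.ofHom (σ : k →+* κ) ≫ (Scheme.ΓSpecIso (CommRingCat.of κ)).inv ≫ g'.appTop ≫
        Z.presheaf.germ ⊤ z trivial := by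
    have h2 : Y.presheaf.germ ⊤ (φ.hom z) trivial ≫ φ.hom.stalkMap z =
        φ.hom.appTop ≫ Z.presheaf.germ ⊤ z trivial := Scheme.Hom.germ_stalkMap φ.hom ⊤ z trivial
    rw [h2, ← Category.assoc g.appTop, ← Scheme.Hom.comp_appTop, hφ, Scheme.Hom.comp_appTop,
      ← Category.assoc, ← Category.assoc, ← Scheme.ΓSpecIso_inv_naturality]
    simp only [Category.assoc]
  have h3 := congrArg (fun q => q.hom c) key
  exact h3

end Scheme

end Groth.Agent.Lefpen.H370.OrdQuadConv
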