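import Groth.Agent.Lefpen.H370.RhoGeo
import Groth.Agent.Lefpen.H370.OrdQuadConv
import Groth.Agent.Lefpen.H713.Trait3

/-!
# A Lefschetz pencil over the trait at `t = c`

`IsTrait k c R t`: `R` is the strict henselization of the projective line at `t = c`. With `(b, ρ)` the total space of
a Lefschetz pencil, `fR ρ R t : X' ×_{P^1} Spec R ⟶ Spec R` is proper, flat and locally of finite presentation;

* `relDim_generic`: its fibre over the fraction field is smooth of relative dimension `n - 1`;
* `exists_spFib_iso`: its special fibre is the member `X ∩ V(F + c G)` (over `k ≅ κ(R)`);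
* `exists_sing`: the data `Sing, U` of the Picard–Lefschetz rows S3996–S4002.
-/

set_option autoImplicit false
universe u
open CategoryTheory AlgebraicGeometry Limits TopologicalSpace Opposite

namespace Groth.Agent.Lefpen.H370.TraitGeo

open LefPen Groth.Agent.Lefpen.H723.P1Pt Groth.Agent.Lefpen.H723.PencilGeom
  Groth.Agent.Lefpen.H723.PencilSmooth Groth.Agent.Lefpen.H713.RingPt Groth.Agent.Lefpen.H713.Trait1
  Groth.Agent.Lefpen.H370.RhoGeo

section Base

variable {k : Type u} [Field k] {X' : Scheme.{u}} (ρ : X' ⟶ CohB1.ProjSpace 1 k)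
  (R : Type u) [CommRing R] [Algebra k R] (t : R)

/-- The pencil over `Spec R`. -/
noncomputable abbrev XR : Scheme.{u} := pullback ρ (ringPt k R t)

/-- The projection to `X'`. -/
noncomputable abbrev qR : XR ρ R t ⟶ X' := pullback.fst ρ (ringPt k R t)

/-- The structure morphism. -/
noncomputable abbrev fR : XR ρ R t ⟶ Spec (CommRingCat.of R) := pullback.snd ρ (ringPt k R t)

theorem isPullback_fR : IsPullback (qR ρ R t) (fR ρ R t) ρ (ringPt k R t) := IsPullback.of_hasPullback _ _

/-- The fibres over `R`-algebras. -/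
theorem isPullback_fib (A : Type u) [CommRing A] [Algebra R A] :
    IsPullback (VanCyc.jA R (fR ρ R t) A ≫ qR ρ R t) (VanCyc.fibStr R (fR ρ R t) A) ρ
      (VanCyc.toS R A ≫ ringPt k R t) :=
  (IsPullback.of_hasPullback (fR ρ R t) (VanCyc.toS R A)).paste_horiz (isPullback_fR ρ R t)

/-- The special fibre. -/
theorem isPullback_spFib [IsLocalRing R] :
    IsPullback (VanCyc.icl R (fR ρ R t) ≫ qR ρ R t) (VanCyc.spStr R (fR ρ R t)) ρ
      (VanCyc.toSk R ≫ ringPt k R t) :=
  (IsPullback.of_hasPullback (fR ρ R t) (VanCyc.toSk R)).paste_horiz (isPullback_fR ρ R t)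

end Base

section Pencil

variable {k : Type u} [Field k] [IsAlgClosed k] {r n d : ℕ} {X X' : Scheme.{u}}
  {i : X ⟶ CohB1.ProjSpace r k} {F G : Form r k d} {b : X' ⟶ X} {ρ : X' ⟶ CohB1.ProjSpace 1 k}
  {c : k}

omit [IsAlgClosed k] in
/-- The fraction field of the trait maps to the generic point of the line. -/
theorem genPt_of_isTrait {R : Type u} [CommRing R] [IsDomain R] [IsDiscreteValuationRing R] [Algebra k R]
    {t : R} (h : IsTrait k c R t) (K : Type u) [Field K] [Algebra R K] [IsFractionRing R K]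
    (x : Spec (CommRingCat.of K)) :
    (VanCyc.toS R K ≫ ringPt k R t) x = Groth.Agent.Sga5.ProjConn.genPt 1 k := by
  rcases Groth.Agent.Sga4h.BidGeoP1.eq_genPt_or_isClosed k ((VanCyc.toS R K ≫ ringPt k R t) x) with h1 | h1
  · exact h1
  · exfalso
    have h2 : VanCyc.toS R K x ⤳ IsLocalRing.closedPoint R := IsLocalRing.specializes_closedPoint _
    have h3 : ringPt k R t (VanCyc.toS R K x) ⤳ ringPt k R t (IsLocalRing.closedPoint R) :=
      h2.map (ringPt k R t).continuous
    rw [Scheme.Hom.comp_apply] at h1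
    have h4 : ringPt k R t (IsLocalRing.closedPoint R) = ringPt k R t (VanCyc.toS R K x) := by
      have := h3.mem_closed h1 (Set.mem_singleton _)
      exact this
    rw [ringPt, Scheme.Hom.comp_apply, Scheme.Hom.comp_apply] at h4
    have h5 := (Groth.Agent.Sga5.ProjSmooth.chart 1 k 0).isOpenEmbedding.injective h4
    have h6 : (MvPolynomial.X 0 - MvPolynomial.C c : MvPolynomial (Fin 1) k) ∈
        (Spec.map (CommRingCat.ofHom (ev k R t)) (IsLocalRing.closedPoint R)).asIdeal := by
      change ev k R t _ ∈ IsLocalRing.maximalIdeal R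
      rw [map_sub, ev_X, ev_C]
      exact h.mem
    rw [h5] at h6
    have h7 : algebraMap R K (ev k R t (MvPolynomial.X 0 - MvPolynomial.C c)) ∈ x.asIdeal := h6
    have h8 : algebraMap R K (ev k R t (MvPolynomial.X 0 - MvPolynomial.C c)) = 0 := by
      by_contra hne
      exact x.2.ne_top (Ideal.eq_top_of_isUnit_mem _ h7 (isUnit_iff_ne_zero.2 hne))
    rw [map_eq_zero_iff _ (IsFractionRing.injective R K), map_sub, ev_X, ev_C] at h8
    have h9 := h.maxIdeal
    rw [h8, Ideal.span_singleton_eq_bot.2 rfl] at h9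
    exact IsDiscreteValuationRing.not_a_field R h9

section Base2

variable [IsClosedImmersion i] (hρ : LefMon.IsPencilFibration i F G b ρ)

include hρ in
omit [IsAlgClosed k] in
theorem isProper_fR (R : Type u) [CommRing R] [Algebra k R] (t : R) : IsProper (fR ρ R t) := by
  have := isProper_rho hρ
  infer_instance

include hρ in
omit [IsAlgClosed k] in
theorem locallyOfFinitePresentation_fR (R : Type u) [CommRing R] [Algebra k R] (t : R) :
    LocallyOfFinitePresentation (fR ρ R t) := by
  have := locallyOfFinitePresentation_rho hρ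
  infer_instance

variable [IrreducibleSpace X] [SmoothOfRelativeDimension n (i ≫ CohB1.ProjSpace.toSpec r k)]
  (hL : IsLefschetzPencil k n i d F G)

include hρ hL in
omit [IsClosedImmersion i] in
theorem flat_fR (R : Type u) [CommRing R] [Algebra k R] (t : R) : Flat (fR ρ R t) := by
  have := flat_rho_of_isLefschetzPencil (n := n) hL hρ
  infer_instance

include hρ hL in
/-- The generic fibre is smooth. -/
theorem relDim_generic {R : Type u} [CommRing R] [IsDomain R] [IsDiscreteValuationRing R] [Algebra k R]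
    {t : R} (hn : 1 ≤ n) (h : IsTrait k c R t) (K : Type u) [Field K] [Algebra R K] [IsFractionRing R K] :
    SmoothOfRelativeDimension (n - 1) (VanCyc.fibStr R (fR ρ R t) K) := by
  have h1 := locallyOfFinitePresentation_rho hρ
  have h2 := flat_rho_of_isLefschetzPencil (n := n) hL hρ
  refine SmoothRel.of_forall_smoothLocus (isPullback_fib ρ R t K) (n - 1) (relDim_smoothLocus hn hL hρ) ?_
  intro z
  refine mem_smoothLocus_of_generic hn hL hρ _ ?_
  rw [← Scheme.Hom.comp_apply, (isPullback_fib ρ R t K).w, Scheme.Hom.comp_apply]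
  exact genPt_of_isTrait h K _

end Base2

variable {R : Type u} [CommRing R] [IsLocalRing R] [Algebra k R] {t : R}

omit [IsAlgClosed k] in
theorem toSk_ringPt (h : IsTrait k c R t) : VanCyc.toSk R ≫ ringPt k R t =
    Spec.map (CommRingCat.ofHom (algebraMap k (IsLocalRing.ResidueField R))) ≫ LefMon.fieldPt k k c :=
  h.resPt_eq

theorem isIso_toSk (h : IsTrait k c R t) :
    IsIso (Spec.map (CommRingCat.ofHom (algebraMap k (IsLocalRing.ResidueField R)))) := by
  have : IsIso (CommRingCat.ofHom (algebraMap k (IsLocalRing.ResidueField R))) :=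
    (ConcreteCategory.isIso_iff_bijective _).2 h.residue_bijective
  infer_instance

/-- The special fibre is the member of the pencil. -/
theorem exists_spFib_iso (hρ : LefMon.IsPencilFibration i F G b ρ) (h : IsTrait k c R t) :
    ∃ (m : Sec i {F + c • G} ⟶ X') (φ : VanCyc.spFib R (fR ρ R t) ≅ Sec i {F + c • G}),
      m ≫ b = secι i {F + c • G} ∧ IsPullback m (secToSpec i {F + c • G}) ρ (LefMon.fieldPt k k c) ∧
      φ.hom ≫ m = VanCyc.icl R (fR ρ R t) ≫ qR ρ R t ∧
      φ.hom ≫ secToSpec i {F + c • G} = VanCyc.spStr R (fR ρ R t) ≫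
        Spec.map (CommRingCat.ofHom (algebraMap k (IsLocalRing.ResidueField R))) := by
  obtain ⟨m, hm1, hm⟩ := isPullback_line hρ c
  have h1 := isPullback_spFib ρ R t
  rw [toSk_ringPt h] at h1
  have h2 := isIso_toSk h
  have hw : (VanCyc.icl R (fR ρ R t) ≫ qR ρ R t) ≫ ρ = (VanCyc.spStr R (fR ρ R t) ≫
      Spec.map (CommRingCat.ofHom (algebraMap k (IsLocalRing.ResidueField R)))) ≫
        LefMon.fieldPt k k c := by rw [h1.w, Category.assoc]
  have h3 : hm.lift _ _ hw ≫ m = VanCyc.icl R (fR ρ R t) ≫ qR ρ R t := hm.lift_fst _ _ _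
  have h4 : hm.lift _ _ hw ≫ secToSpec i {F + c • G} = VanCyc.spStr R (fR ρ R t) ≫
      Spec.map (CommRingCat.ofHom (algebraMap k (IsLocalRing.ResidueField R))) := hm.lift_snd _ _ _
  have h5 : IsPullback (hm.lift _ _ hw) (VanCyc.spStr R (fR ρ R t)) (secToSpec i {F + c • G})
      (Spec.map (CommRingCat.ofHom (algebraMap k (IsLocalRing.ResidueField R)))) := by
    refine IsPullback.of_right ?_ h4 hm
    rw [h3]
    exact h1
  have h6 : IsIso (hm.lift _ _ hw) := h5.isIso_fst_of_isIso
  exact ⟨m, asIso (hm.lift _ _ hw), hm1, hm, h3, h4⟩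

/-- The singular points of the special fibre. -/
theorem exists_sing [IsClosedImmersion i] [IrreducibleSpace X]
    [SmoothOfRelativeDimension n (i ≫ CohB1.ProjSpace.toSpec r k)] (hn : 1 ≤ n)
    (hL : IsLefschetzPencil k n i d F G) (hρ : LefMon.IsPencilFibration i F G b ρ)
    (h : IsTrait k c R t) :
    ∃ (Sing : Finset ↥(VanCyc.spFib R (fR ρ R t))) (U : (VanCyc.spFib R (fR ρ R t)).Opens),
      (∀ x ∈ Sing, IsClosed ({x} : Set ↥(VanCyc.spFib R (fR ρ R t)))) ∧
      (∀ x ∈ Sing, VanCyc.IsOrdQuadPt (VanCyc.resHom (VanCyc.spStr R (fR ρ R t)) x) (n - 1)) ∧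
      (∀ x : ↥(VanCyc.spFib R (fR ρ R t)), x ∉ Sing → x ∈ U) ∧
      (∀ x ∈ Sing, x ∉ U) ∧
      SmoothOfRelativeDimension (n - 1) (U.ι ≫ VanCyc.spStr R (fR ρ R t)) ∧
      (Transversal k n 1 (secToSpec i {F + c • G}) → Sing = ∅) ∧
      (¬ Transversal k n 1 (secToSpec i {F + c • G}) → Sing.card = 1) := by
  have h1 := locallyOfFinitePresentation_rho hρ
  have h2 := flat_rho_of_isLefschetzPencil (n := n) hL hρ
  obtain ⟨m, φ, -, hm, hφm, hφ⟩ := exists_spFib_iso hρ h
  by_cases hT : Transversal k n 1 (secToSpec i {F + c • G})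
  · refine ⟨∅, ⊤, by simp, by simp, fun _ _ => trivial, by simp, ?_, fun _ => rfl, fun h => absurd hT h⟩
    refine SmoothRel.of_le_smoothLocus (isPullback_spFib ρ R t) (n - 1) (relDim_smoothLocus hn hL hρ) ⊤ ?_
    intro z _
    refine mem_smoothLocus_of_transversal hn hρ hT _ ?_
    rw [← hφm, ← Scheme.Hom.comp_apply, Category.assoc, hm.w, Scheme.Hom.comp_apply,
      Scheme.Hom.comp_apply]
    exact ⟨_, rfl⟩
  · obtain ⟨y, hy, hyq⟩ := hL.2.2.2 _ (Or.inr ⟨c, rfl⟩) hT
    have hx0 : φ.hom (φ.inv y) = y := by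
      rw [← Scheme.Hom.comp_apply, φ.inv_hom_id]
      rfl
    have hcl : IsClosed ({φ.inv y} : Set ↥(VanCyc.spFib R (fR ρ R t))) := by
      have h3 : ({φ.inv y} : Set ↥(VanCyc.spFib R (fR ρ R t))) = φ.hom ⁻¹' {y} := by
        ext z
        constructor
        · intro hz
          rw [Set.mem_singleton_iff.1 hz]
          exact hx0
        · intro hz
          have h4 : φ.hom z = y := hz
          rw [← h4, ← Scheme.Hom.comp_apply, φ.hom_inv_id]
          rfl
      rw [h3]
      exact hyq.1.preimage φ.hom.continuous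
    refine ⟨{φ.inv y}, ⟨{φ.inv y}ᶜ, hcl.isOpen_compl⟩, ?_, ?_, ?_, ?_, ?_, fun h => absurd h hT,
      fun _ => Finset.card_singleton _⟩
    · intro x hx
      rw [Finset.mem_singleton.1 hx]
      exact hcl
    · intro x hx
      rw [Finset.mem_singleton.1 hx]
      refine OrdQuadConv.isOrdQuadPt_of_lefPen (RingEquiv.ofBijective _ h.residue_bijective) φ hφ _ ?_
      rw [hx0]
      exact hyq
    · intro x hx
      rw [Finset.mem_singleton] at hx
      exact hx
    · intro x hx hx2
      rw [Finset.mem_singleton] at hx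
      exact hx2 hx
    · refine SmoothRel.of_le_smoothLocus (isPullback_spFib ρ R t) (n - 1) (relDim_smoothLocus hn hL hρ) _ ?_
      intro z hz
      have h3 : φ.hom z ≠ y := by
        intro h4
        apply hz
        change z = φ.inv y
        rw [← h4, ← Scheme.Hom.comp_apply, φ.hom_inv_id]
        rfl
      have h5 : φ.hom z ∈ {y' | SmoothAt (secToSpec i {F + c • G}) y'} := by
        rw [hy]
        exact h3
      rw [← hφm, Scheme.Hom.comp_apply]
      rw [fieldPt_eq] at hm
      exact (mem_smoothLocus_iff hm _).1 h5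

end Pencil

end Groth.Agent.Lefpen.H370.TraitGeo
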