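import Groth.Prelude.Def_LefMon
import Groth.Agent.Etcore.HC

/-!
# Comparison of relative and absolute pull-back for constant coefficients

`E : A ≅ B`, `j : A ⟶ Y`: `coE E j M q : H^q(A, j^* M) ≃+ H^q(B, M)`; if `g : A ⟶ A` satisfies `g ≫ j = j` and
`g ≫ E = E ≫ g'` then `coE` carries `EtCore.HpullVia g` to the pull-back along `g'` (`coH_HpullVia`:
to `EtAdic.Hmap`).
-/

set_option autoImplicit false
universe u
open CategoryTheory AlgebraicGeometry Limits TopologicalSpace Opposite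

namespace Groth.Agent.Lefpen.H370.CohCmp

section HH

open Groth.Agent.Etcore.EtInst Groth.Agent.Etcore.PullCoh Groth.Agent.Etcore.HpullCalc
  Groth.Agent.Etcore.HC
open scoped Groth.Agent.Etcore.EtInst

variable {X Y Z : Scheme.{u}}

/-- Identification of the cohomology of the pull-back of a constant sheaf. -/
noncomputable def cst (f : X ⟶ Y) (M : Type) [AddCommGroup M] (q : ℕ) :
    HH X ((EtCoh.pull f).obj (EtCoh.const Y M)) q ≃+ HH X (EtCoh.const X M) q :=
  AddEquiv.ofBijective (HHmap (EtCore.pullConst f M).hom q) (HHmap_bijective (EtCore.pullConst f M).hom q)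

theorem cst_apply (f : X ⟶ Y) (M : Type) [AddCommGroup M] (q : ℕ)
    (x : HH X ((EtCoh.pull f).obj (EtCoh.const Y M)) q) :
    cst f M q x = HHmap (EtCore.pullConst f M).hom q x := rfl

/-- For constant coefficients the relative pull-back is the pull-back. -/
theorem cst_hpVia (f : X ⟶ Y) (t : Y ⟶ Z) (f₀ : X ⟶ Z) (w : f ≫ t = f₀) (M : Type) [AddCommGroup M]
    (q : ℕ) (x : HH Y ((EtCoh.pull t).obj (EtCoh.const Z M)) q) :
    cst f₀ M q (hpVia f t f₀ w (EtCoh.const Z M) q x) = HC M f q (cst t M q x) := by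
  rw [cst_apply, cst_apply, hpVia_apply_th, ← HHmap_comp, ← pullConst_comp f t f₀ w M]
  change _ = hpl f _ q _
  rw [hpl_map]
  rfl

variable {A B : Scheme.{u}} (E : A ≅ B) (j : A ⟶ Y) (M : Type) [AddCommGroup M] (q : ℕ)

theorem bijective_HC : Function.Bijective (HC M E.hom q) :=
  (bijective_HC_iff M E.hom q).2 (bijective_hp_of_isIso E.hom _ q)

/-- The comparison isomorphism. -/
noncomputable def coE :
    HH A ((EtCoh.pull j).obj (EtCoh.const Y M)) q ≃+ HH B (EtCoh.const B M) q :=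
  (cst j M q).trans (AddEquiv.ofBijective (HC M E.hom q) (bijective_HC E M q)).symm

theorem HC_coE (x : HH A ((EtCoh.pull j).obj (EtCoh.const Y M)) q) :
    HC M E.hom q (coE E j M q x) = cst j M q x :=
  (AddEquiv.ofBijective (HC M E.hom q) (bijective_HC E M q)).apply_symm_apply _

theorem coE_hpVia (g : A ⟶ A) (w : g ≫ j = j) (g' : B ⟶ B) (hg : g ≫ E.hom = E.hom ≫ g')
    (x : HH A ((EtCoh.pull j).obj (EtCoh.const Y M)) q) :
    coE E j M q (hpVia g j j w (EtCoh.const Y M) q x) = HC M g' q (coE E j M q x) := by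
  apply (bijective_HC E M q).1
  rw [HC_coE, ← HC_comp, ← hg, HC_comp, HC_coE]
  exact cst_hpVia g j j w M q x

theorem Hmap_eq_HC (ℓ : ℕ) (f : X ⟶ Y) (hf : PreservesFiniteLimits (EtCoh.pull f)) (q ν : ℕ)
    (x : EtAdic.Hmod Y ℓ q ν) :
    EtAdic.Hmap ℓ f hf q ν x = HC (ZMod (ℓ ^ ν)) f q x := rfl

end HH

section H

variable {Y A B : Scheme.{u}} (E : A ≅ B) (j : A ⟶ Y) (M : Type) [AddCommGroup M] (q : ℕ)

/-- The comparison isomorphism. -/
noncomputable def coH :
    EtCoh.H A ((EtCoh.pull j).obj (EtCoh.const Y M)) q ≃+ EtCoh.H B (EtCoh.const B M) q :=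
  coE E j M q

theorem coH_HpullVia (ℓ ν : ℕ) (g : A ⟶ A) (w : g ≫ j = j) (g' : B ⟶ B)
    (hg : g ≫ E.hom = E.hom ≫ g') (i1 : PreservesFiniteLimits (EtCoh.pull g))
    (i2 : PreservesFiniteLimits (EtCoh.pull g'))
    (x : EtCoh.H A ((EtCoh.pull j).obj (EtCoh.const Y (ZMod (ℓ ^ ν)))) q) :
    coH E j (ZMod (ℓ ^ ν)) q (EtCore.HpullVia g j j w (EtCoh.const Y (ZMod (ℓ ^ ν))) q x) =
      EtAdic.Hmap ℓ g' i2 q ν (coH E j (ZMod (ℓ ^ ν)) q x) :=
  coE_hpVia E j (ZMod (ℓ ^ ν)) q g w g' hg x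

end H

end Groth.Agent.Lefpen.H370.CohCmp
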