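import Groth.Agent.Lefpen.H713.Trait3
import Groth.Prelude.Def_VanCyc

/-!
# Wild inertia fixes the roots of order prime to the characteristic

`k` algebraically closed, `W` a valuation ring of `Ω ⊇ k(t)` centred at `t = c`.

* `wild_fix_root`: if `σ` is in the wild inertia at `W`, `N ≠ 0` in `k` and `σ` fixes `r ^ N` then `σ r = r`;
* `quadChar_eq_one`, `fixesRoot`: the consequences for the characters of the Picard–Lefschetz rows.
-/

set_option autoImplicit false

open CategoryTheory AlgebraicGeometry IsLocalRing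

universe u

namespace Groth.Agent.Lefpen.H370.WildRoot

section Root

variable {k : Type u} [Field k] [IsAlgClosed k] {c : k} {Ω : Type u} [Field Ω] [Algebra (RatFunc k) Ω]
  {W : ValuationSubring Ω}

omit [IsAlgClosed k] in
/-- A constant congruent to zero is zero. -/
theorem const_eq_zero (hW : LefMon.LiesOverPt c W) (a : k)
    (ha : W.valuation (algebraMap (RatFunc k) Ω (RatFunc.C a)) < 1) : a = 0 := by
  by_contra h0
  have h1 : algebraMap (RatFunc k) Ω (RatFunc.C a) * algebraMap (RatFunc k) Ω (RatFunc.C a⁻¹) = 1 := by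
    rw [← map_mul, ← map_mul, mul_inv_cancel₀ h0, map_one, map_one]
  have h2 : W.valuation (algebraMap (RatFunc k) Ω (RatFunc.C a⁻¹)) ≤ 1 :=
    (W.valuation_le_one_iff _).2 (hW.1 _)
  have h3 := mul_lt_one_of_lt_of_le ha h2
  rw [← map_mul, h1, map_one] at h3
  exact lt_irrefl _ h3

/-- Wild inertia fixes the `N`-th roots of fixed elements, `N` prime to the characteristic. -/
theorem wild_fix_root (hW : LefMon.LiesOverPt c W) {σ : Ω ≃ₐ[RatFunc k] Ω} (hσ : LefMon.IsWildInertia W σ)
    {N : ℕ} (hN : (N : k) ≠ 0) (r : Ω) (hr : σ (r ^ N) = r ^ N) : σ r = r := by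
  by_cases h0 : r = 0
  · rw [h0, map_zero]
  have hN0 : 0 < N := Nat.pos_of_ne_zero (by rintro rfl; simp at hN)
  let alk : Algebra k Ω := ((algebraMap (RatFunc k) Ω).comp RatFunc.C).toAlgebra
  have hz : (σ r / r) ^ N = 1 := by
    rw [div_pow, ← map_pow, hr, div_self (pow_ne_zero _ h0)]
  have hint : IsIntegral k (σ r / r) :=
    ⟨Polynomial.X ^ N - 1, Polynomial.monic_X_pow_sub_C 1 hN0.ne', by simp [hz]⟩
  obtain ⟨a, ha⟩ := minpoly.mem_range_of_degree_eq_one k (σ r / r)
    (IsAlgClosed.degree_eq_one_of_irreducible k (minpoly.irreducible hint))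
  have h1 := hσ.2 r h0
  have h2 : σ r / r - 1 = algebraMap (RatFunc k) Ω (RatFunc.C (a - 1)) := by
    rw [map_sub, map_sub, map_one, map_one, ← ha]
    rfl
  rw [h2] at h1
  have h3 := const_eq_zero hW _ h1
  have h4 : a = 1 := sub_eq_zero.1 h3
  have h5 : σ r / r = 1 := by
    rw [← ha, h4]
    exact map_one _
  exact (div_eq_one_iff_eq h0).1 h5

end Root

section Char

variable {k : Type u} [Field k] [IsAlgClosed k] {c : k} {Ω : Type u} [Field Ω] [Algebra (RatFunc k) Ω]
  {W : ValuationSubring Ω} {K : Type u} [Field K] [Algebra K Ω]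

/-- The quadratic character of a wild element is trivial (characteristic different from two). -/
theorem quadChar_eq_one (hW : LefMon.LiesOverPt c W) {σ : Ω ≃ₐ[RatFunc k] Ω}
    (hσ : LefMon.IsWildInertia W σ) (s : Ω ≃ₐ[K] Ω) (hs : ∀ x, s x = σ x) (h2 : (2 : k) ≠ 0) (x : K) :
    VanCyc.quadChar x s = 1 := by
  classical
  rw [VanCyc.quadChar]
  refine if_pos fun r hr => ?_
  rw [hs]
  refine wild_fix_root (N := 2) hW hσ (by exact_mod_cast h2) r ?_
  rw [pow_two, hr, ← hs, s.commutes]

/-- A wild element fixes an `N`-th root of every element of `K`. -/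
theorem fixesRoot [IsSepClosed Ω] (hW : LefMon.LiesOverPt c W) {σ : Ω ≃ₐ[RatFunc k] Ω}
    (hσ : LefMon.IsWildInertia W σ) (s : Ω ≃ₐ[K] Ω) (hs : ∀ x, s x = σ x) {N : ℕ} (hN : (N : k) ≠ 0)
    (x : K) : VanCyc.FixesRoot N x s := by
  have hN1 : NeZero (N : Ω) := by
    refine ⟨fun h => hN ?_⟩
    have h1 : ((algebraMap (RatFunc k) Ω).comp RatFunc.C) (N : k) = 0 := by
      rw [map_natCast]
      exact h
    exact (map_eq_zero _).1 h1
  obtain ⟨r, hr⟩ := IsSepClosed.exists_pow_nat_eq (algebraMap K Ω x) N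
  refine ⟨r, hr, ?_⟩
  rw [hs]
  refine wild_fix_root hW hσ hN r ?_
  rw [hr, ← hs, s.commutes]

end Char

end Groth.Agent.Lefpen.H370.WildRoot
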