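import Groth.Agent.Lefpen.H370.GalCmp
import Groth.Agent.Lefpen.H370.WildRoot
import Groth.Agent.S0101

/-!
# S4032 from S4001 and S4002

The wild inertia acts trivially on the cohomology of the geometric generic member of a Lefschetz pencil, given the
Picard–Lefschetz rows S4001 (even relative dimension) and S4002 (odd relative dimension) as hypotheses.
-/

set_option autoImplicit false
universe u
open CategoryTheory CategoryTheory.Limits AlgebraicGeometry
open LefMon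

namespace Groth.Agent.Lefpen.H370.CondS4032

/-- The statement of S4001. -/
def Stmt4001 : Prop :=
  ∀ (R K Ω : Type u) [CommRing R] [IsDomain R] [IsDiscreteValuationRing R]
    (_ : EtCoh.IsStrictlyHenselianLocalRing R) [Field K] [Algebra R K] [IsFractionRing R K] [Field Ω]
    [Algebra K Ω] [IsSepClosure K Ω] [Algebra R Ω] [IsScalarTower R K Ω]
    {X : Scheme.{u}} (f : X ⟶ Spec (CommRingCat.of R)) [IsProper f] [Flat f] (n : ℕ)
    (_ : SmoothOfRelativeDimension n (VanCyc.fibStr R f K))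
    (Sing : Finset ↥(VanCyc.spFib R f)) (_ : ∀ x ∈ Sing, IsClosed ({x} : Set ↥(VanCyc.spFib R f)))
    (_ : ∀ x ∈ Sing, VanCyc.IsOrdQuadPt (VanCyc.resHom (VanCyc.spStr R f) x) n)
    (U : (VanCyc.spFib R f).Opens) (_ : ∀ x : ↥(VanCyc.spFib R f), x ∉ Sing → x ∈ U)
    (_ : SmoothOfRelativeDimension n (U.ι ≫ VanCyc.spStr R f))
    (N : ℕ) (_ : IsUnit (N : R)) [PreservesFiniteLimits (EtCoh.pull (VanCyc.jA R f Ω))] (_ : Even n)
    (_ : IsUnit (2 : R)) (t : R) (_ : Irreducible t) (σ : Ω ≃ₐ[K] Ω)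
    [PreservesFiniteLimits (EtCoh.pull (VanCyc.galGeom f σ))]
    (_ : VanCyc.quadChar (algebraMap R K t) σ = 1),
    VanCyc.galH f σ (EtCoh.const X (ZMod N)) n = AddMonoidHom.id _

/-- The statement of S4002. -/
def Stmt4002 : Prop :=
  ∀ (R K Ω : Type u) [CommRing R] [IsDomain R] [IsDiscreteValuationRing R]
    (_ : EtCoh.IsStrictlyHenselianLocalRing R) [Field K] [Algebra R K] [IsFractionRing R K] [Field Ω]
    [Algebra K Ω] [IsSepClosure K Ω] [Algebra R Ω] [IsScalarTower R K Ω]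
    {X : Scheme.{u}} (f : X ⟶ Spec (CommRingCat.of R)) [IsProper f] [Flat f] (n : ℕ)
    (_ : SmoothOfRelativeDimension n (VanCyc.fibStr R f K))
    (Sing : Finset ↥(VanCyc.spFib R f)) (_ : ∀ x ∈ Sing, IsClosed ({x} : Set ↥(VanCyc.spFib R f)))
    (_ : ∀ x ∈ Sing, VanCyc.IsOrdQuadPt (VanCyc.resHom (VanCyc.spStr R f) x) n)
    (U : (VanCyc.spFib R f).Opens) (_ : ∀ x : ↥(VanCyc.spFib R f), x ∉ Sing → x ∈ U)
    (_ : SmoothOfRelativeDimension n (U.ι ≫ VanCyc.spStr R f))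
    (N : ℕ) (_ : IsUnit (N : R)) [PreservesFiniteLimits (EtCoh.pull (VanCyc.jA R f Ω))] (_ : Odd n)
    (t : R) (_ : Irreducible t) (σ : Ω ≃ₐ[K] Ω) [PreservesFiniteLimits (EtCoh.pull (VanCyc.galGeom f σ))]
    (_ : VanCyc.FixesRoot N (algebraMap R K t) σ),
    VanCyc.galH f σ (EtCoh.const X (ZMod N)) n = AddMonoidHom.id _

open Groth.Agent.Lefpen.H713.RingPt Groth.Agent.Lefpen.H713.Trait1 Groth.Agent.Lefpen.H370.TraitGeo
  Groth.Agent.Lefpen.H370.GalCmp Groth.Agent.Lefpen.H370.WildRoot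

section Setup

variable {k : Type u} [Field k] {c : k} {R : Type u} [CommRing R] [IsDomain R] [IsDiscreteValuationRing R]
  [Algebra k R] {t : R}

theorem irreducible_of_isTrait (h : IsTrait k c R t) : Irreducible (t - algebraMap k R c) :=
  (IsDiscreteValuationRing.irreducible_iff_uniformizer _).2 h.maxIdeal

theorem strictlyHenselian_of_isTrait (h : IsTrait k c R t) : EtCoh.IsStrictlyHenselianLocalRing R :=
  ⟨h.strictLoc.henselian, h.strictLoc.sepClosed⟩

omit [IsDomain R] [IsDiscreteValuationRing R] in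
theorem isUnit_natCast {N : ℕ} (hN : (N : k) ≠ 0) : IsUnit (N : R) := by
  have h1 : IsUnit (algebraMap k R (N : k)) := (isUnit_iff_ne_zero.2 hN).map _
  rwa [map_natCast] at h1

end Setup

/-- Level-wise triviality of the wild inertia. -/
theorem hmap_eq (h4001 : Stmt4001.{u}) (h4002 : Stmt4002.{u}) (k : Type u) [Field k] [IsAlgClosed k] (r n : ℕ)
    (hn : 1 ≤ n) {X : Scheme.{u}} (i : X ⟶ CohB1.ProjSpace r k) [IsClosedImmersion i] [IrreducibleSpace X]
    [SmoothOfRelativeDimension n (i ≫ CohB1.ProjSpace.toSpec r k)]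
    (hpar : Even n ∨ ringChar k ≠ 2) (d : ℕ) (F G : LefPen.Form r k d)
    (hL : LefPen.IsLefschetzPencil k n i d F G)
    {X' : Scheme.{u}} (b : X' ⟶ X) (ρ : X' ⟶ CohB1.ProjSpace 1 k) (hρ : LefMon.IsPencilFibration i F G b ρ)
    (Ω : Type u) [Field Ω] [Algebra (RatFunc k) Ω] [IsSepClosure (RatFunc k) Ω]
    (ℓ ν : ℕ) (hℓ : (ℓ : k) ≠ 0) (c : k) (W : ValuationSubring Ω) (hW : LefMon.LiesOverPt c W)
    (σ : Ω ≃ₐ[RatFunc k] Ω) (hσ : LefMon.IsWildInertia W σ)
    (hex : PreservesFiniteLimits (EtCoh.pull (LefMon.galAct k ρ Ω σ)))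
    (y : EtAdic.Hmod (LefMon.geomFibre k ρ Ω) ℓ (n - 1) ν) :
    EtAdic.Hmap ℓ (LefMon.galAct k ρ Ω σ) hex (n - 1) ν y = y := by
  have hsc : IsSepClosed Ω := IsSepClosure.sep_closed (RatFunc k)
  obtain ⟨R, _, _, _, _, _, t, h⟩ := exists_isTraitIn k c W hW
  let K := FractionRing R
  let alK : Algebra K Ω := (IsFractionRing.lift (K := K) h.inj).toAlgebra
  have tow : IsScalarTower R K Ω := IsScalarTower.of_algebraMap_eq' (by
    apply RingHom.ext
    intro x
    exact (IsFractionRing.lift_algebraMap h.inj x).symm)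
  have hsK : IsSepClosure K Ω := h.isSepClosure K
  obtain ⟨s, hs⟩ := h.exists_algEquiv K σ (isInertia_of_isWildInertia hσ)
  have h1 := isProper_fR hρ R t
  have h2 := flat_fR (n := n) hρ hL R t
  obtain ⟨Sing, U, hSc, hSq, hU, -, hUs, -, -⟩ := exists_sing hn hL hρ h.toIsTrait
  have hη := relDim_generic hρ hL hn h.toIsTrait K
  have hNk : ((ℓ ^ ν : ℕ) : k) ≠ 0 := by
    rw [Nat.cast_pow]
    exact pow_ne_zero _ hℓ
  have i0 : PreservesFiniteLimits (EtCoh.pull (VanCyc.jA R (fR ρ R t) Ω)) := S0101.result _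
  have i1 : PreservesFiniteLimits (EtCoh.pull (VanCyc.galGeom (fR ρ R t) s)) := S0101.result _
  refine Hmap_eq_of_galH_eq_id ρ (n - 1) ℓ ν h σ s hs i1 hex ?_ y
  rcases Nat.even_or_odd (n - 1) with hev | hodd
  · have h2k : (2 : k) ≠ 0 := by
      rcases hpar with hp | hp
      · exfalso
        rw [Nat.even_iff] at hp hev
        omega
      · exact Ring.two_ne_zero hp
    have h2R : IsUnit (2 : R) := by
      have := isUnit_natCast (R := R) (N := 2) (k := k) (by exact_mod_cast h2k)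
      exact_mod_cast this
    exact h4001 R K Ω (strictlyHenselian_of_isTrait h.toIsTrait) (fR ρ R t) (n - 1) hη Sing hSc hSq U hU hUs
      (ℓ ^ ν) (isUnit_natCast hNk) hev h2R (t - algebraMap k R c) (irreducible_of_isTrait h.toIsTrait) s
      (quadChar_eq_one hW hσ s hs h2k _)
  · exact h4002 R K Ω (strictlyHenselian_of_isTrait h.toIsTrait) (fR ρ R t) (n - 1) hη Sing hSc hSq U hU hUs
      (ℓ ^ ν) (isUnit_natCast hNk) hodd (t - algebraMap k R c) (irreducible_of_isTrait h.toIsTrait) s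
      (fixesRoot hW hσ s hs hNk _)

/-- The statement of S4032, from those of S4001 and S4002. -/
theorem result (h4001 : Stmt4001.{u}) (h4002 : Stmt4002.{u}) (k : Type u) [Field k] [IsAlgClosed k] (r n : ℕ) (hn : 1 ≤ n)
    {X : Scheme.{u}} (i : X ⟶ CohB1.ProjSpace r k) [IsClosedImmersion i] [IrreducibleSpace X]
    [SmoothOfRelativeDimension n (i ≫ CohB1.ProjSpace.toSpec r k)]
    (hpar : Even n ∨ ringChar k ≠ 2) (d : ℕ) (_hd : 1 ≤ d) (F G : LefPen.Form r k d) (hL : LefPen.IsLefschetzPencil k n i d F G)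
    {X' : Scheme.{u}} (b : X' ⟶ X) (ρ : X' ⟶ CohB1.ProjSpace 1 k) (hρ : LefMon.IsPencilFibration i F G b ρ)
    (Ω : Type u) [Field Ω] [Algebra (RatFunc k) Ω] [IsSepClosure (RatFunc k) Ω]
    [hex : ∀ σ : Ω ≃ₐ[RatFunc k] Ω, PreservesFiniteLimits (EtCoh.pull (LefMon.galAct k ρ Ω σ))]
    (ℓ : ℕ) [Fact ℓ.Prime] (hℓ : (ℓ : k) ≠ 0)
    (c : k) (W : ValuationSubring Ω) (hW : LefMon.LiesOverPt c W) (σ : Ω ≃ₐ[RatFunc k] Ω)
    (hσ : LefMon.IsWildInertia W σ) :
    EtAdic.ActsTriviallyQ ℓ (fun ν => EtAdic.Hmap ℓ (LefMon.galAct k ρ Ω σ) (hex σ) (n - 1) ν) := by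
  intro x _
  refine ⟨1, one_pos, fun ν => ?_⟩
  have h1 := hmap_eq h4001 h4002 k r n hn i hpar d F G hL b ρ hρ Ω ℓ ν hℓ c W hW σ hσ (hex σ) (x ν)
  rw [one_smul]
  exact sub_eq_zero.2 h1

end Groth.Agent.Lefpen.H370.CondS4032
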