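import Groth.Agent.Lefpen.H370.TraitGeo
import Groth.Agent.Lefpen.H370.CohCmp

/-!
# Comparison of the two descriptions of the Galois action on the geometric generic fibre of a pencil

For the trait `R` at `t = c` embedded in a valuation ring of `Ω` (`IsTraitIn k c W R t`), the geometric generic
fibre of the pencil over `R` is the geometric generic fibre of the pencil (`geoIso`), compatibly with the Galois
actions (`galGeom_geoIso`), hence the actions `VanCyc.galH` (constant coefficients) and `EtAdic.Hmap` on the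
cohomology are conjugate: `coEquiv`, `coEquiv_galH`.
-/

set_option autoImplicit false
universe u
open CategoryTheory AlgebraicGeometry Limits TopologicalSpace Opposite

namespace Groth.Agent.Lefpen.H370.GalCmp

open Groth.Agent.Lefpen.H713.RingPt Groth.Agent.Lefpen.H713.Trait1 Groth.Agent.Lefpen.H370.TraitGeo
  Groth.Agent.Lefpen.H370.CohCmp

variable {k : Type u} [Field k] {X' : Scheme.{u}} (ρ : X' ⟶ CohB1.ProjSpace 1 k) {c : k}
  {Ω : Type u} [Field Ω] [Algebra (RatFunc k) Ω] {W : ValuationSubring Ω}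
  {R : Type u} [CommRing R] [IsLocalRing R] [Algebra k R] [Algebra R Ω] {t : R}

theorem isPullback_geo (h : IsTraitIn k c W R t) :
    IsPullback (VanCyc.jA R (fR ρ R t) Ω ≫ qR ρ R t) (VanCyc.fibStr R (fR ρ R t) Ω) ρ
      (LefMon.geomGenPt k Ω) := by
  have h1 := isPullback_fib ρ R t Ω
  have h2 : LefMon.geomGenPt k Ω = VanCyc.toS R Ω ≫ ringPt k R t := h.geomGenPt_eq
  rw [h2]
  exact h1

/-- The geometric generic fibre of the pencil over the trait. -/
noncomputable def geoIso (h : IsTraitIn k c W R t) :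
    VanCyc.fib R (fR ρ R t) Ω ≅ LefMon.geomFibre k ρ Ω :=
  (isPullback_geo ρ h).isoPullback

@[reassoc (attr := simp)]
theorem geoIso_fst (h : IsTraitIn k c W R t) :
    (geoIso ρ h).hom ≫ pullback.fst ρ (LefMon.geomGenPt k Ω) = VanCyc.jA R (fR ρ R t) Ω ≫ qR ρ R t :=
  (isPullback_geo ρ h).isoPullback_hom_fst

@[reassoc (attr := simp)]
theorem geoIso_snd (h : IsTraitIn k c W R t) :
    (geoIso ρ h).hom ≫ pullback.snd ρ (LefMon.geomGenPt k Ω) = VanCyc.fibStr R (fR ρ R t) Ω :=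
  (isPullback_geo ρ h).isoPullback_hom_snd

variable {K : Type u} [Field K] [Algebra R K] [Algebra K Ω] [IsScalarTower R K Ω]

/-- Compatibility with the Galois actions. -/
theorem galGeom_geoIso (h : IsTraitIn k c W R t) (σ : Ω ≃ₐ[RatFunc k] Ω) (s : Ω ≃ₐ[K] Ω)
    (hs : ∀ x, s x = σ x) :
    VanCyc.galGeom (fR ρ R t) s ≫ (geoIso ρ h).hom = (geoIso ρ h).hom ≫ LefMon.galAct k ρ Ω σ := by
  have hs' : (s : Ω →+* Ω) = (σ : Ω →+* Ω) := RingHom.ext hs
  apply pullback.hom_ext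
  · rw [Category.assoc, Category.assoc, geoIso_fst]
    have h1 : LefMon.galAct k ρ Ω σ ≫ pullback.fst ρ (LefMon.geomGenPt k Ω) =
        pullback.fst ρ (LefMon.geomGenPt k Ω) := by
      rw [LefMon.galAct, pullback.lift_fst, Category.comp_id]
    have h2 := VanCyc.galGeom_jA (fR ρ R t) s
    rw [h1, geoIso_fst, ← Category.assoc]
    exact congrArg (fun q => q ≫ qR ρ R t) h2
  · rw [Category.assoc, Category.assoc, geoIso_snd]
    have h1 : LefMon.galAct k ρ Ω σ ≫ pullback.snd ρ (LefMon.geomGenPt k Ω) =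
        pullback.snd ρ (LefMon.geomGenPt k Ω) ≫ Spec.map (CommRingCat.ofHom (σ : Ω →+* Ω)) := by
      rw [LefMon.galAct, pullback.lift_snd]
    have h2 : VanCyc.galGeom (fR ρ R t) s ≫ VanCyc.fibStr R (fR ρ R t) Ω =
        VanCyc.fibStr R (fR ρ R t) Ω ≫ Spec.map (CommRingCat.ofHom (s : Ω →+* Ω)) := by
      rw [VanCyc.galGeom, pullback.lift_snd]
    rw [h1, h2, geoIso_snd_assoc, hs']

variable (M : Type) [AddCommGroup M] (q : ℕ)

/-- The comparison of the cohomology groups. -/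
noncomputable def coEquiv (h : IsTraitIn k c W R t) :
    EtCoh.H (VanCyc.fib R (fR ρ R t) Ω)
      ((EtCoh.pull (VanCyc.jA R (fR ρ R t) Ω)).obj (EtCoh.const (XR ρ R t) M)) q ≃+
      EtCoh.H (LefMon.geomFibre k ρ Ω) (EtCoh.const (LefMon.geomFibre k ρ Ω) M) q :=
  coH (geoIso ρ h) (VanCyc.jA R (fR ρ R t) Ω) M q

/-- **The comparison of the Galois actions.** -/
theorem coEquiv_galH (ℓ ν : ℕ) (h : IsTraitIn k c W R t) (σ : Ω ≃ₐ[RatFunc k] Ω) (s : Ω ≃ₐ[K] Ω)
    (hs : ∀ x, s x = σ x) (i1 : PreservesFiniteLimits (EtCoh.pull (VanCyc.galGeom (fR ρ R t) s)))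
    (i2 : PreservesFiniteLimits (EtCoh.pull (LefMon.galAct k ρ Ω σ)))
    (x : EtCoh.H (VanCyc.fib R (fR ρ R t) Ω)
      ((EtCoh.pull (VanCyc.jA R (fR ρ R t) Ω)).obj (EtCoh.const (XR ρ R t) (ZMod (ℓ ^ ν)))) q) :
    coEquiv ρ (ZMod (ℓ ^ ν)) q h
        (VanCyc.galH (fR ρ R t) s (EtCoh.const (XR ρ R t) (ZMod (ℓ ^ ν))) q x) =
      EtAdic.Hmap ℓ (LefMon.galAct k ρ Ω σ) i2 q ν (coEquiv ρ (ZMod (ℓ ^ ν)) q h x) :=
  coH_HpullVia (geoIso ρ h) (VanCyc.jA R (fR ρ R t) Ω) q ℓ ν (VanCyc.galGeom (fR ρ R t) s)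
    (VanCyc.galGeom_jA (fR ρ R t) s) (LefMon.galAct k ρ Ω σ) (galGeom_geoIso ρ h σ s hs) i1 i2 x

/-- If `s` acts trivially on the cohomology of the pencil over the trait then `σ` acts trivially. -/
theorem Hmap_eq_of_galH_eq_id (ℓ ν : ℕ) (h : IsTraitIn k c W R t) (σ : Ω ≃ₐ[RatFunc k] Ω) (s : Ω ≃ₐ[K] Ω)
    (hs : ∀ x, s x = σ x) (i1 : PreservesFiniteLimits (EtCoh.pull (VanCyc.galGeom (fR ρ R t) s)))
    (i2 : PreservesFiniteLimits (EtCoh.pull (LefMon.galAct k ρ Ω σ)))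
    (hid : VanCyc.galH (fR ρ R t) s (EtCoh.const (XR ρ R t) (ZMod (ℓ ^ ν))) q = AddMonoidHom.id _)
    (y : EtAdic.Hmod (LefMon.geomFibre k ρ Ω) ℓ q ν) :
    EtAdic.Hmap ℓ (LefMon.galAct k ρ Ω σ) i2 q ν y = y := by
  obtain ⟨x, rfl⟩ := (coEquiv ρ (ZMod (ℓ ^ ν)) q h).surjective y
  have h1 := coEquiv_galH ρ q ℓ ν h σ s hs i1 i2 x
  rw [hid] at h1
  exact h1.symm

end Groth.Agent.Lefpen.H370.GalCmp
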