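import Groth.Agent.Lefpen.H370.HubGeo
import Groth.Agent.Lefpen.H651.UB
import Groth.Agent.Lefpen.H365.Pur
import Groth.Agent.Lefpen.H20.FinX

/-!
# The upper bound for the cohomology of the generic fibre of a Lefschetz pencil over the trait

`hub`: for a singular member of a Lefschetz pencil with `n`-dimensional base, over the trait `R` at this member,
`|H^{n-1}(X_K, ℤ/N)| ≤ |H^{n-1}(X_R, ℤ/N)| |H^n(X_R, ℤ/N)|` (without the second factor for `n = 1`).
-/

set_option autoImplicit false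
universe u
open CategoryTheory AlgebraicGeometry Limits TopologicalSpace Opposite IsLocalRing

namespace Groth.Agent.Lefpen.H370.Hub

open LefPen Groth.Agent.Lefpen.H713.RingPt Groth.Agent.Lefpen.H713.Trait1
  Groth.Agent.Lefpen.H370.TraitGeo Groth.Agent.Lefpen.H370.HubGeo

variable {k : Type u} [Field k] [IsAlgClosed k] {r n d : ℕ} {X X' : Scheme.{u}}
  {i : X ⟶ CohB1.ProjSpace r k} {F G : Form r k d} {b : X' ⟶ X} {ρ : X' ⟶ CohB1.ProjSpace 1 k}
  {c : k}

omit [IsAlgClosed k] in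
theorem strictlyHenselian {R : Type u} [CommRing R] [IsLocalRing R] [Algebra k R] {t : R}
    (h : IsTrait k c R t) : EtCoh.IsStrictlyHenselianLocalRing R :=
  ⟨h.strictLoc.henselian, h.strictLoc.sepClosed⟩

theorem isAlgClosed_residueField {R : Type u} [CommRing R] [IsLocalRing R] [Algebra k R] {t : R}
    (h : IsTrait k c R t) : IsAlgClosed (ResidueField R) :=
  IsAlgClosed.of_ringEquiv k (ResidueField R) (RingEquiv.ofBijective _ h.residue_bijective)

omit [IsAlgClosed k] in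
theorem natCast_ne_zero {R : Type u} [CommRing R] [IsLocalRing R] [Algebra k R] {N : ℕ}
    (hN : IsUnit (N : R)) : (N : k) ≠ 0 := by
  intro h0
  have h1 : (N : R) = 0 := by rw [← map_natCast (algebraMap k R) N, h0, map_zero]
  rw [h1] at hN
  exact not_isUnit_zero hN

/-- Restriction to the complement of the singular point. -/
theorem nonempty_H_equiv {a : X' ⟶ Spec (CommRingCat.of k)} (hn : 1 ≤ n) (ha : SmoothOfRelativeDimension n a)
    {R : Type u} [CommRing R] [IsLocalRing R] [Algebra k R] {t : R} (h : IsTrait k c R t)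
    {N : ℕ} (hN : (N : k) ≠ 0) {V : (XR ρ R t).Opens} {x₁ : X'} (hx₁ : IsClosed ({x₁} : Set X'))
    (hV : (V : Set ↥(XR ρ R t))ᶜ = (pullback.fst ρ (ringPt k R t)).base ⁻¹' {x₁}) (q : ℕ) (hq : q + 1 < 2 * n) :
    Nonempty (EtCoh.H (XR ρ R t) (EtCoh.const (XR ρ R t) (ZMod N)) q ≃+
      EtCoh.H (V : Scheme.{u}) (EtCoh.const (V : Scheme.{u}) (ZMod N)) q) := by
  obtain ⟨ι, _, _, _, D, π, hc, h1, h2, h3⟩ := isSmLim_ringPt h
  exact H365.Pur.purity_card_of_smooth a n hn x₁ hx₁ ρ D h1 h2 (Cone.mk _ π) hc (ringPt k R t) h3 V hV N hN q hq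

/-- (HUB) -/
theorem hub [IsClosedImmersion i] [IrreducibleSpace X]
    [SmoothOfRelativeDimension n (i ≫ CohB1.ProjSpace.toSpec r k)] (hn : 1 ≤ n)
    (hL : IsLefschetzPencil k n i d F G) (hρ : LefMon.IsPencilFibration i F G b ρ)
    (hbad : ¬ Transversal k n 1 (secToSpec i {F + c • G}))
    {R : Type u} [CommRing R] [IsDomain R] [IsDiscreteValuationRing R] [Algebra k R] {t : R}
    (h : IsTrait k c R t) (K : Type u) [Field K] [Algebra R K] [IsFractionRing R K]
    (N : ℕ) (hN : IsUnit (N : R)) :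
    (n - 1 = 0 ∧ Nat.card (EtCoh.H (VanCyc.fib R (fR ρ R t) K)
        (EtCoh.const (VanCyc.fib R (fR ρ R t) K) (ZMod N)) (n - 1)) ≤
      Nat.card (EtCoh.H (XR ρ R t) (EtCoh.const (XR ρ R t) (ZMod N)) (n - 1))) ∨
    (1 ≤ n - 1 ∧ Nat.card (EtCoh.H (VanCyc.fib R (fR ρ R t) K)
        (EtCoh.const (VanCyc.fib R (fR ρ R t) K) (ZMod N)) (n - 1)) ≤
      Nat.card (EtCoh.H (XR ρ R t) (EtCoh.const (XR ρ R t) (ZMod N)) (n - 1)) *
      Nat.card (EtCoh.H (XR ρ R t) (EtCoh.const (XR ρ R t) (ZMod N)) (n - 1 + 1))) := by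
  have hpr := isProper_fR hρ R t
  have hsh := strictlyHenselian h
  have hac := isAlgClosed_residueField h
  have hNk : (N : k) ≠ 0 := natCast_ne_zero (R := R) hN
  have hN0 : 0 < N := Nat.pos_of_ne_zero (by rintro rfl; exact hNk (by simp))
  obtain ⟨x₀, V, x₁, hVx, hx₁, hV, hVs⟩ := exists_point hn hL hρ hbad h
  have ha := H470.PencilSm.smoothOfRelDim_of_isLefschetzPencil hn hL hρ
  obtain ⟨e⟩ := nonempty_H_equiv hn ha h hNk hx₁ hV (n - 1) (by omega)
  rcases Nat.eq_zero_or_pos (n - 1) with h0 | h0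
  · refine Or.inl ⟨h0, ?_⟩
    have hVs' : Smooth (V.ι ≫ fR ρ R t) := SmoothOfRelativeDimension.smooth (n - 1) _
    have hVK : ∀ x : ↥(VanCyc.fib R (fR ρ R t) K), (VanCyc.jA R (fR ρ R t) K).base x ∈ V := by
      intro x
      by_contra hx
      have h1 : (VanCyc.jA R (fR ρ R t) K).base x ∈ ({(VanCyc.icl R (fR ρ R t)).base x₀} : Set ↥(XR ρ R t)) :=
        hVx ▸ hx
      have h2 : (VanCyc.jA R (fR ρ R t) K) x = (VanCyc.icl R (fR ρ R t)) x₀ := h1
      exact jA_ne_icl _ K x x₀ h2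
    have h1 := H651.UB.upper_zero R K hsh (fR ρ R t) V hVs' hVK N hN
    rw [h0] at e ⊢
    rw [h1, Nat.card_congr e.toEquiv]
  · refine Or.inr ⟨h0, ?_⟩
    have hfin : Finite (EtCoh.H (V : Scheme.{u}) (EtCoh.const (V : Scheme.{u}) (ZMod N)) (n - 1)) := by
      have := H20.FinX.finite_const hsh (fR ρ R t) N hN0 (n - 1)
      exact Finite.of_equiv _ e.toEquiv
    have h1 := (H651.UB.upper R K hsh (fR ρ R t) V (n - 1) h0 hVs x₀ hVx N hN hfin).2
    rwa [← Nat.card_congr e.toEquiv] at h1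

end Groth.Agent.Lefpen.H370.Hub
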