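import Groth.Agent.Lefpen.H370.TraitGeo
import Groth.Agent.Lefpen.H470.PencilSm
import Groth.Agent.Sga7.H938.StrictLocInd

/-!
# The geometry of a Lefschetz pencil over the trait at a singular member

* `isSmLim_ringPt`: the trait is a directed limit of smooth schemes over the line;
* `eq_closedPoint`: the closed point is the fibre of `Spec R ⟶ P^1` over `t = c`;
* `exists_point`: `V`, the complement of the singular point of the special fibre of `X_R`, is smooth over `R` of
  relative dimension `n - 1` and is the complement of the preimage of a closed point of `X'`.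
-/

set_option autoImplicit false
universe u
open CategoryTheory AlgebraicGeometry Limits TopologicalSpace Opposite IsLocalRing

namespace Groth.Agent.Lefpen.H370.HubGeo

open LefPen Groth.Agent.Lefpen.H723.P1Pt Groth.Agent.Lefpen.H723.PencilGeom
  Groth.Agent.Lefpen.H723.PencilSmooth Groth.Agent.Lefpen.H713.RingPt Groth.Agent.Lefpen.H713.Trait1
  Groth.Agent.Lefpen.H370.RhoGeo Groth.Agent.Lefpen.H370.TraitGeo

section Trait

variable {k : Type u} [Field k] {c : k} {R : Type u} [CommRing R] [IsLocalRing R] [Algebra k R] {t : R}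

/-- The trait is a directed limit of smooth schemes over the line. -/
theorem isSmLim_ringPt (h : IsTrait k c R t) : Etdl.H428.SmLim.IsSmLim (ringPt k R t) := by
  let _ : Algebra (MvPolynomial (Fin 1) k) R := (ev k R t).toAlgebra
  have h0 : Etrest.StrictLoc.IsStrictLoc
      (Spec.map (CommRingCat.ofHom (algebraMap (MvPolynomial (Fin 1) k) R)) ≫ Sga5.ProjSmooth.chart 1 k 0) := h.strictLoc
  have h1 := Groth.Agent.Etrest.StrictLoc.IsStrictLoc.of_comp (Sga5.ProjSmooth.chart 1 k 0) h0
  exact Etdl.H428.SmLim.isSmLim_of_isInd (Sga7.H938.StrictLocInd.isInd_sm_of_isIndEtale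
    (Sga7.H938.StrictLocInd.isIndEtale_of_isStrictLoc _ _ h1)) (Sga5.ProjSmooth.chart 1 k 0)

theorem eq_closedPoint (h : IsTrait k c R t) (s : Spec (CommRingCat.of R))
    (hs : ringPt k R t s = ringPt k R t (closedPoint R)) : s = closedPoint R := by
  rw [ringPt, Scheme.Hom.comp_apply, Scheme.Hom.comp_apply] at hs
  have h5 := (Sga5.ProjSmooth.chart 1 k 0).isOpenEmbedding.injective hs
  have h6 : (MvPolynomial.X 0 - MvPolynomial.C c : MvPolynomial (Fin 1) k) ∈
      (Spec.map (CommRingCat.ofHom (ev k R t)) (closedPoint R)).asIdeal := by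
    change ev k R t _ ∈ maximalIdeal R
    rw [map_sub, ev_X, ev_C]
    exact h.mem
  rw [← h5] at h6
  have h7 : ev k R t (MvPolynomial.X 0 - MvPolynomial.C c) ∈ PrimeSpectrum.asIdeal s := h6
  rw [map_sub, ev_X, ev_C] at h7
  have h8 : maximalIdeal R ≤ PrimeSpectrum.asIdeal s := by
    rw [h.maxIdeal, Ideal.span_singleton_le_iff_mem]
    exact h7
  have h9 : (PrimeSpectrum.asIdeal s).IsPrime := PrimeSpectrum.isPrime (R := R) s
  exact PrimeSpectrum.ext (le_antisymm (IsLocalRing.le_maximalIdeal h9.ne_top) h8)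

end Trait

section Points

/-- the spectrum of a discrete valuation ring has two points -/
theorem eq_or {R : Type u} [CommRing R] [IsDomain R] [IsDiscreteValuationRing R]
    (s : Spec (CommRingCat.of R)) :
    s = closedPoint R ∨ s = (⟨⊥, Ideal.isPrime_bot⟩ : PrimeSpectrum R) := by
  by_cases h : (PrimeSpectrum.asIdeal s) = ⊥
  · exact Or.inr (PrimeSpectrum.ext h)
  · left
    have h1 : (PrimeSpectrum.asIdeal s).IsPrime := PrimeSpectrum.isPrime (R := R) s
    have h2 : (PrimeSpectrum.asIdeal s).IsMaximal := IsPrime.to_maximal_ideal h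
    exact PrimeSpectrum.ext (IsLocalRing.eq_maximalIdeal h2)

variable {R : Type u} [CommRing R] {X : Scheme.{u}} (f : X ⟶ Spec (CommRingCat.of R))

/-- points over the generic point come from the generic fibre -/
theorem exists_generic (K : Type u) [Field K] [Algebra R K] [IsDomain R] [IsFractionRing R K] (z : X)
    (hz : f z = (⟨⊥, Ideal.isPrime_bot⟩ : PrimeSpectrum R)) :
    ∃ z' : VanCyc.fib R f K, VanCyc.jA R f K z' = z := by
  let p : Spec (CommRingCat.of K) := (⟨⊥, Ideal.isPrime_bot⟩ : PrimeSpectrum K)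
  have hp : VanCyc.toS R K p = (⟨⊥, Ideal.isPrime_bot⟩ : PrimeSpectrum R) := by
    apply PrimeSpectrum.ext
    change Ideal.comap (algebraMap R K) ⊥ = ⊥
    rw [← RingHom.ker_eq_comap_bot, (RingHom.injective_iff_ker_eq_bot _).1
      (IsFractionRing.injective R K)]
  obtain ⟨z', h1, -⟩ := Scheme.Pullback.exists_preimage_pullback (f := f) (g := VanCyc.toS R K) z p
    (hz.trans hp.symm)
  exact ⟨z', h1⟩

/-- points over the closed point come from the special fibre -/
theorem exists_special [IsLocalRing R] (z : X) (hz : f z = closedPoint R) :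
    ∃ z' : VanCyc.spFib R f, VanCyc.icl R f z' = z := by
  let p : Spec (CommRingCat.of (ResidueField R)) := closedPoint (ResidueField R)
  have hp : VanCyc.toSk R p = closedPoint R := by
    apply PrimeSpectrum.ext
    change Ideal.comap (residue R) (maximalIdeal (ResidueField R)) = maximalIdeal R
    exact IsLocalRing.maximalIdeal_comap _
  obtain ⟨z', h1, -⟩ := Scheme.Pullback.exists_preimage_pullback (f := f) (g := VanCyc.toSk R) z p
    (hz.trans hp.symm)
  exact ⟨z', h1⟩

theorem toSk_apply [IsLocalRing R] (y : Spec (CommRingCat.of (ResidueField R))) :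
    VanCyc.toSk R y = closedPoint R := Etrest.StrictLoc.resPt_closedPoint R y

/-- The generic and the special fibre are disjoint. -/
theorem jA_ne_icl (K : Type u) [Field K] [Algebra R K] [IsDomain R] [IsDiscreteValuationRing R]
    [IsFractionRing R K] (x : VanCyc.fib R f K) (y : VanCyc.spFib R f) :
    VanCyc.jA R f K x ≠ VanCyc.icl R f y := by
  intro h
  have h3 : f (VanCyc.jA R f K x) = VanCyc.toS R K (VanCyc.fibStr R f K x) := by
    rw [← Scheme.Hom.comp_apply, ← Scheme.Hom.comp_apply]
    exact congrArg (fun g : VanCyc.fib R f K ⟶ _ => g x) pullback.condition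
  have h4 : f (VanCyc.icl R f y) = closedPoint R := by
    refine Eq.trans ?_ (toSk_apply (VanCyc.spStr R f y))
    rw [← Scheme.Hom.comp_apply, ← Scheme.Hom.comp_apply]
    exact congrArg (fun g : VanCyc.spFib R f ⟶ _ => g y) pullback.condition
  rw [h, h4] at h3
  have h5 : maximalIdeal R = Ideal.comap (algebraMap R K)
      (PrimeSpectrum.asIdeal (R := K) (VanCyc.fibStr R f K x)) :=
    congrArg (PrimeSpectrum.asIdeal (R := R)) h3
  have h6 : (PrimeSpectrum.asIdeal (R := K) (VanCyc.fibStr R f K x)) = ⊥ := by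
    rcases Ideal.eq_bot_or_top (PrimeSpectrum.asIdeal (R := K) (VanCyc.fibStr R f K x)) with h7 | h7
    · exact h7
    · exact absurd h7 (PrimeSpectrum.isPrime (R := K) (VanCyc.fibStr R f K x)).ne_top
  rw [h6, ← RingHom.ker_eq_comap_bot, (RingHom.injective_iff_ker_eq_bot _).1
    (IsFractionRing.injective R K)] at h5
  exact IsDiscreteValuationRing.not_a_field R h5

end Points

section Pencil

variable {k : Type u} [Field k] [IsAlgClosed k] {r n d : ℕ} {X X' : Scheme.{u}}
  {i : X ⟶ CohB1.ProjSpace r k} {F G : Form r k d} {b : X' ⟶ X} {ρ : X' ⟶ CohB1.ProjSpace 1 k}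
  {c : k}

/-- The complement of the singular point of the special fibre. -/
theorem exists_point [IsClosedImmersion i] [IrreducibleSpace X]
    [SmoothOfRelativeDimension n (i ≫ CohB1.ProjSpace.toSpec r k)] (hn : 1 ≤ n)
    (hL : IsLefschetzPencil k n i d F G) (hρ : LefMon.IsPencilFibration i F G b ρ)
    (hbad : ¬ Transversal k n 1 (secToSpec i {F + c • G}))
    {R : Type u} [CommRing R] [IsDomain R] [IsDiscreteValuationRing R] [Algebra k R] {t : R}
    (h : IsTrait k c R t) :
    ∃ (x₀ : ↥(VanCyc.spFib R (fR ρ R t))) (V : (XR ρ R t).Opens) (x₁ : X'),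
      (V : Set ↥(XR ρ R t))ᶜ = {(VanCyc.icl R (fR ρ R t)).base x₀} ∧
      IsClosed ({x₁} : Set X') ∧
      (V : Set ↥(XR ρ R t))ᶜ = (pullback.fst ρ (ringPt k R t)).base ⁻¹' {x₁} ∧
      SmoothOfRelativeDimension (n - 1) (V.ι ≫ fR ρ R t) := by
  have hlfp := locallyOfFinitePresentation_rho hρ
  have hfl := flat_rho_of_isLefschetzPencil (n := n) hL hρ
  obtain ⟨Sing, U, hSc, -, hSU, -, hUs, -, hcard⟩ := exists_sing hn hL hρ h
  obtain ⟨x₀, hx₀⟩ := Finset.card_eq_one.1 (hcard hbad)
  obtain ⟨m, φ, -, hm, hφm, hφ⟩ := exists_spFib_iso hρ h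
  have hmcl : IsClosedImmersion m := by
    rw [Groth.Agent.Lefpen.H723.P1Pt.fieldPt_eq] at hm
    exact MorphismProperty.of_isPullback (P := @IsClosedImmersion) hm.flip inferInstance
  have hx0 : IsClosed ({x₀} : Set ↥(VanCyc.spFib R (fR ρ R t))) :=
    hSc x₀ (by rw [hx₀]; exact Finset.mem_singleton_self _)
  have hpt : ∀ z, qR ρ R t (VanCyc.icl R (fR ρ R t) z) = m (φ.hom z) := by
    intro z
    rw [← Scheme.Hom.comp_apply, ← Scheme.Hom.comp_apply, hφm]
  let x₁ : X' := qR ρ R t (VanCyc.icl R (fR ρ R t) x₀)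
  have hx1 : IsClosed ({x₁} : Set X') := by
    have h1 : ({x₁} : Set X') = m '' (φ.inv ⁻¹' {x₀}) := by
      ext z
      constructor
      · intro hz
        rw [Set.mem_singleton_iff.1 hz]
        refine ⟨φ.hom x₀, ?_, (hpt x₀).symm⟩
        change φ.inv (φ.hom x₀) = x₀
        rw [← Scheme.Hom.comp_apply, φ.hom_inv_id]
        rfl
      · rintro ⟨w, hw, rfl⟩
        have hw' : φ.inv w = x₀ := hw
        change m w = x₁
        change m w = qR ρ R t (VanCyc.icl R (fR ρ R t) x₀)
        rw [hpt, ← hw', ← Scheme.Hom.comp_apply φ.inv φ.hom, φ.inv_hom_id]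
        rfl
    rw [h1]
    exact m.isClosedEmbedding.isClosedMap _ (hx0.preimage φ.inv.continuous)
  have hfib : (pullback.fst ρ (ringPt k R t)).base ⁻¹' ({x₁} : Set X') =
      {(VanCyc.icl R (fR ρ R t)).base x₀} := by
    ext z
    constructor
    · intro hz
      have hz1 : qR ρ R t z = qR ρ R t (VanCyc.icl R (fR ρ R t) x₀) := hz
      have hw : ∀ z, ρ (qR ρ R t z) = ringPt k R t (fR ρ R t z) := by
        intro z
        rw [← Scheme.Hom.comp_apply, ← Scheme.Hom.comp_apply, (isPullback_fR ρ R t).w]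
      have h2 : fR ρ R t (VanCyc.icl R (fR ρ R t) x₀) = closedPoint R := by
        rw [← Scheme.Hom.comp_apply, pullback.condition, Scheme.Hom.comp_apply]
        exact toSk_apply _
      have h1 : fR ρ R t z = closedPoint R := by
        refine eq_closedPoint h _ ?_
        rw [← hw, hz1, hw, h2]
      obtain ⟨z', rfl⟩ := exists_special _ z h1
      rw [hpt, hpt] at hz1
      have h3 := m.isClosedEmbedding.injective hz1
      have h4 : z' = x₀ := by
        have h5 := congrArg (fun w => φ.inv w) h3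
        dsimp only at h5
        rw [← Scheme.Hom.comp_apply, ← Scheme.Hom.comp_apply, φ.hom_inv_id] at h5
        exact h5
      rw [h4]
      rfl
    · intro hz
      rw [Set.mem_singleton_iff.1 hz]
      rfl
  let V : (XR ρ R t).Opens := ⟨((pullback.fst ρ (ringPt k R t)).base ⁻¹' ({x₁} : Set X'))ᶜ,
    (hx1.preimage (pullback.fst ρ (ringPt k R t)).continuous).isOpen_compl⟩
  have hV : (V : Set ↥(XR ρ R t))ᶜ = (pullback.fst ρ (ringPt k R t)).base ⁻¹' {x₁} := compl_compl _
  refine ⟨x₀, V, x₁, hV.trans hfib, hx1, hV, ?_⟩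
  refine SmoothRel.of_le_smoothLocus (isPullback_fR ρ R t) (n - 1) (relDim_smoothLocus hn hL hρ) V ?_
  intro z hz
  rcases eq_or (fR ρ R t z) with h1 | h1
  · obtain ⟨z', rfl⟩ := exists_special _ z h1
    have h2 : z' ≠ x₀ := by
      rintro rfl
      exact hz rfl
    have h3 : z' ∈ U := hSU z' (by rw [hx₀, Finset.mem_singleton]; exact h2)
    have h4 : Smooth (U.ι ≫ VanCyc.spStr R (fR ρ R t)) := SmoothOfRelativeDimension.smooth (n - 1) _
    have h6 := locallyOfFinitePresentation_fR hρ R t
    have h5 : LocallyOfFinitePresentation (VanCyc.spStr R (fR ρ R t)) := inferInstance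
    have h7 := VarietyA.SmoothLocusSch.le_smoothLocus (VanCyc.spStr R (fR ρ R t)) U
    have h8 := (Groth.Agent.Smoothlim.SmoothLocusBC.mem_smoothLocus_iff_of_isPullback
      (isPullback_spFib ρ R t) z' (Or.inl (Flat.stalkMap ρ _))).1 (h7 h3)
    rwa [Scheme.Hom.comp_apply] at h8
  · obtain ⟨z', rfl⟩ := exists_generic _ (FractionRing R) z h1
    refine mem_smoothLocus_of_generic hn hL hρ _ ?_
    have h2 := (isPullback_fib ρ R t (FractionRing R)).w
    have h3 := congrArg (fun g => g z') h2
    dsimp only at h3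
    rw [Scheme.Hom.comp_apply, Scheme.Hom.comp_apply, Scheme.Hom.comp_apply] at h3
    rw [h3]
    exact genPt_of_isTrait h (FractionRing R) _

end Pencil

end Groth.Agent.Lefpen.H370.HubGeo
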