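import Groth.Agent.Lefpen.H713.Trait3
import Groth.Agent.Sga4h.TameExt
import Groth.Agent.Sga4h.UlaRing812
import Mathlib.RingTheory.Valuation.ValuationRing

/-!
# All automorphisms over the fraction field of the trait are in the inertia group

`h : IsTraitIn k c W R t`, `K = Frac R`.

* `mem_W_iff`: `W` is the integral closure of `R` in `Ω`;
* `exists_const`: every element of `W` is a constant modulo the maximal ideal;
* `exists_restrict`: every `τ : Ω ≃ₐ[K] Ω` is, over `k(t)`, an element of the inertia group at `W`.
-/

set_option autoImplicit false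

open CategoryTheory AlgebraicGeometry IsLocalRing

universe u

namespace Groth.Agent.Lefpen.H370.InertiaAll

open Groth.Agent.Lefpen.H713.RingPt Groth.Agent.Lefpen.H713.Trait1

variable {k : Type u} [Field k] {c : k} {Ω : Type u} [Field Ω] [Algebra (RatFunc k) Ω]
  {W : ValuationSubring Ω} {R : Type u} [CommRing R] [IsDomain R] [IsDiscreteValuationRing R] [Algebra k R]
  [Algebra R Ω] {t : R}

/-- The embedding of the trait in `W`. -/
noncomputable def toW (h : IsTraitIn k c W R t) : R →+* W :=
  RingHom.codRestrict (algebraMap R Ω) W.toSubring h.memW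

theorem coe_toW (h : IsTraitIn k c W R t) (x : R) : (toW h x : Ω) = algebraMap R Ω x := rfl

/-- Integral elements lie in `W`. -/
theorem mem_of_isIntegral (h : IsTraitIn k c W R t) {x : Ω} (hx : IsIntegral R x) : x ∈ W := by
  let _ : Algebra R W := (toW h).toAlgebra
  have : IsScalarTower R W Ω := IsScalarTower.of_algebraMap_eq (fun _ => rfl)
  have h1 : IsIntegral W x := hx.tower_top
  obtain ⟨y, hy⟩ := IsIntegrallyClosed.isIntegral_iff.1 h1
  rw [← hy]
  exact y.2

variable (K : Type u) [Field K] [Algebra R K] [IsFractionRing R K] [Algebra K Ω] [IsScalarTower R K Ω]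

/-- An element of `Ω` is integral over the trait or has an inverse in the maximal ideal of `W`. -/
theorem isIntegral_or [IsSepClosure K Ω] (h : IsTraitIn k c W R t) (x : Ω) :
    IsIntegral R x ∨ W.valuation x⁻¹ < 1 := by
  have hsep : Algebra.IsSeparable K Ω := IsSepClosure.separable
  have hint : IsIntegral K x := (Algebra.IsSeparable.isSeparable K x).isIntegral
  let L := IntermediateField.adjoin K {x}
  have hfin : FiniteDimensional K L := IntermediateField.adjoin.finiteDimensional hint
  have hsepL : Algebra.IsSeparable K L := Algebra.isSeparable_tower_bot_of_isSeparable K L Ω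
  have hR : EtCoh.IsStrictlyHenselianLocalRing R := ⟨h.strictLoc.henselian, h.strictLoc.sepClosed⟩
  have hdvr := Groth.Agent.Sga4h.TameExt.isDiscreteValuationRing R K L hR
  have hfr := Groth.Agent.Sga4h.TameExt.isFractionRing R K L
  let x' : L := ⟨x, IntermediateField.mem_adjoin_simple_self K x⟩
  have tow : IsScalarTower R L Ω := IsScalarTower.of_algebraMap_eq (fun _ => rfl)
  have key : ∀ b : integralClosure R L, IsIntegral R ((b : L) : Ω) := by
    intro b
    have h1 : IsIntegral R (b : L) := b.2
    exact h1.map (IsScalarTower.toAlgHom R L Ω)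
  rcases ValuationRing.isInteger_or_isInteger (integralClosure R L) x' with ⟨b, hb⟩ | ⟨b, hb⟩
  · left
    have h1 := key b
    have h2 : (b : L) = x' := hb
    rw [h2] at h1
    exact h1
  · have hb' : ((b : L) : Ω) = x⁻¹ := by
      have h2 : (b : L) = x'⁻¹ := hb
      rw [h2]
      rfl
    have hens : HenselianLocalRing R := h.strictLoc.henselian
    rcases Groth.Agent.Sga4h.UlaRing812.isUnit_or_dvd_pow L (V := R) h.maxIdeal b with hu | ⟨d, hd⟩
    · left
      obtain ⟨b', hb'u⟩ := hu.exists_right_inv
      have h3 : ((b' : L) : Ω) = x := by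
        have h4 : ((b : L) : Ω) * ((b' : L) : Ω) = 1 := by
          have h5 := congrArg (fun z : integralClosure R L => ((z : L) : Ω)) hb'u
          exact h5
        rw [hb'] at h4
        have h6 : x ≠ 0 := by
          rintro rfl
          rw [inv_zero, zero_mul] at h4
          exact zero_ne_one h4
        field_simp at h4
        exact h4
      rw [← h3]
      exact key b'
    · right
      obtain ⟨b', hb'd⟩ := hd
      have h4 : ((b : L) : Ω) ^ d = algebraMap R Ω (t - algebraMap k R c) * ((b' : L) : Ω) := by
        have h5 := congrArg (fun z : integralClosure R L => ((z : L) : Ω)) hb'd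
        exact h5
      rw [hb'] at h4
      have h5 : W.valuation (x⁻¹ ^ d) < 1 := by
        rw [h4, map_mul]
        exact mul_lt_one_of_lt_of_le (h.loc _ h.toIsTrait.mem)
          ((W.valuation_le_one_iff _).2 (mem_of_isIntegral h (key b')))
      by_contra hcon
      rw [not_lt] at hcon
      rw [map_pow] at h5
      exact absurd (one_le_pow₀ hcon) (not_le.2 h5)

/-- `W` is the integral closure of the trait. -/
theorem mem_W_iff [IsSepClosure K Ω] (h : IsTraitIn k c W R t) (x : Ω) : x ∈ W ↔ IsIntegral R x := by
  refine ⟨fun hx => ?_, mem_of_isIntegral h⟩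
  by_cases h0 : x = 0
  · rw [h0]
    exact isIntegral_zero
  rcases isIntegral_or K h x with h1 | h1
  · exact h1
  · exfalso
    have h2 := (W.valuation_le_one_iff x).2 hx
    have h3 := mul_lt_one_of_lt_of_le h1 h2
    rw [← map_mul, inv_mul_cancel₀ h0, map_one] at h3
    exact lt_irrefl _ h3

/-- Every element of `W` is a constant modulo the maximal ideal. -/
theorem exists_const [IsAlgClosed k] [IsSepClosure K Ω] (h : IsTraitIn k c W R t) (x : Ω) (hx : x ∈ W) :
    ∃ a : k, W.valuation (x - algebraMap R Ω (algebraMap k R a)) < 1 := by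
  have hx1 := (mem_W_iff K h x).1 hx
  let _ : Algebra R W := (toW h).toAlgebra
  have tow1 : IsScalarTower R W Ω := IsScalarTower.of_algebraMap_eq (fun _ => rfl)
  have hloc : IsLocalHom (toW h) := by
    constructor
    intro a ha
    by_contra hna
    have h1 : W.valuation (algebraMap R Ω a) < 1 := h.loc a ((mem_maximalIdeal a).2 hna)
    have h2 : W.valuation ((toW h a : W) : Ω) = 1 := (W.valuation_eq_one_iff _).1 ha
    rw [coe_toW] at h2
    exact absurd h1 (by rw [h2]; exact lt_irrefl _)
  let x' : W := ⟨x, hx⟩
  have hx2 : IsIntegral R x' := by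
    have h1 : IsIntegral R (algebraMap W Ω x') := hx1
    exact (isIntegral_algebraMap_iff (FaithfulSMul.algebraMap_injective W Ω)).1 h1
  -- the residue class
  let φ : ResidueField R →+* ResidueField W := ResidueField.map (toW h)
  have hac : IsAlgClosed (ResidueField R) :=
    IsAlgClosed.of_ringEquiv k (ResidueField R) (RingEquiv.ofBijective _ h.residue_bijective)
  let _ : Algebra (ResidueField R) (ResidueField W) := φ.toAlgebra
  have hx3 : IsIntegral (ResidueField R) (residue W x') := by
    obtain ⟨p, hp, hpx⟩ := hx2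
    refine ⟨p.map (residue R), hp.map _, ?_⟩
    rw [Polynomial.eval₂_map]
    have h1 := congrArg (residue W) hpx
    rw [Polynomial.hom_eval₂, map_zero] at h1
    exact h1
  obtain ⟨y, hy⟩ := minpoly.mem_range_of_degree_eq_one (ResidueField R) (residue W x')
    (IsAlgClosed.degree_eq_one_of_irreducible _ (minpoly.irreducible hx3))
  obtain ⟨a, rfl⟩ := h.residue_bijective.2 y
  refine ⟨a, ?_⟩
  have h1 : residue W (x' - toW h (algebraMap k R a)) = 0 := by
    rw [map_sub, sub_eq_zero, ← hy]
    rfl
  have h2 := (residue_eq_zero_iff _).1 h1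
  exact (W.valuation_lt_one_iff _).1 h2

/-- Automorphisms over the fraction field of the trait preserve `W`. -/
theorem map_mem [IsSepClosure K Ω] (h : IsTraitIn k c W R t) (τ : Ω ≃ₐ[K] Ω) {x : Ω} (hx : x ∈ W) :
    τ x ∈ W := by
  rw [mem_W_iff K h] at hx ⊢
  exact hx.map ((τ : Ω →ₐ[K] Ω).restrictScalars R)

/-- Automorphisms over the fraction field of the trait preserve the maximal ideal of `W`. -/
theorem map_lt [IsSepClosure K Ω] (h : IsTraitIn k c W R t) (τ : Ω ≃ₐ[K] Ω) {x : Ω}
    (hx : W.valuation x < 1) : W.valuation (τ x) < 1 := by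
  have hxW : x ∈ W := (W.valuation_le_one_iff x).1 hx.le
  by_contra hcon
  have h1 : W.valuation (τ x) = 1 :=
    le_antisymm ((W.valuation_le_one_iff _).2 (map_mem K h τ hxW)) (not_lt.1 hcon)
  by_cases h0 : x = 0
  · rw [h0, map_zero, map_zero] at h1
    exact zero_ne_one h1
  have h2 : (τ x)⁻¹ ∈ W := by
    rw [← W.valuation_le_one_iff, map_inv₀, h1, inv_one]
  have h3 : x⁻¹ ∈ W := by
    have h4 := map_mem K h τ.symm h2
    rwa [map_inv₀, τ.symm_apply_apply] at h4
  have h4 := (W.valuation_le_one_iff _).2 h3
  have h5 := mul_lt_one_of_lt_of_le hx h4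
  rw [← map_mul, mul_inv_cancel₀ h0, map_one] at h5
  exact lt_irrefl _ h5

omit [IsFractionRing R K] in
/-- The rational functions in the fraction field of the trait. -/
theorem exists_ratFunc_hom (h : IsTraitIn k c W R t) :
    ∃ f : RatFunc k →+* K, (algebraMap K Ω).comp f = algebraMap (RatFunc k) Ω := by
  let φ : Polynomial k →+* K := (algebraMap R K).comp (Polynomial.aeval t : Polynomial k →ₐ[k] R).toRingHom
  have h1 : (algebraMap K Ω).comp φ =
      (algebraMap (RatFunc k) Ω).comp (algebraMap (Polynomial k) (RatFunc k)) := by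
    apply Polynomial.ringHom_ext
    · intro a
      change algebraMap K Ω (algebraMap R K (Polynomial.aeval t (Polynomial.C a))) = _
      rw [Polynomial.aeval_C, ← IsScalarTower.algebraMap_apply R K Ω, h.const]
      rfl
    · change algebraMap K Ω (algebraMap R K (Polynomial.aeval t Polynomial.X)) = _
      rw [Polynomial.aeval_X, ← IsScalarTower.algebraMap_apply R K Ω, h.gen]
      rw [RingHom.comp_apply, RatFunc.algebraMap_X]
  have h2 : Function.Injective φ := by
    have h3 : Function.Injective ((algebraMap K Ω).comp φ) := by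
      rw [h1]
      exact (algebraMap (RatFunc k) Ω).injective.comp (RatFunc.algebraMap_injective k)
    exact Function.Injective.of_comp h3
  refine ⟨IsFractionRing.lift h2, ?_⟩
  apply IsLocalization.ringHom_ext (nonZeroDivisors (Polynomial k))
  rw [← h1, RingHom.comp_assoc]
  congr 1
  apply RingHom.ext
  intro x
  exact IsFractionRing.lift_algebraMap h2 x

variable {K}

/-- **Every automorphism over the fraction field of the trait is in the inertia group.** -/
theorem exists_restrict [IsAlgClosed k] [IsSepClosure K Ω] (h : IsTraitIn k c W R t) (τ : Ω ≃ₐ[K] Ω) :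
    ∃ σ : Ω ≃ₐ[RatFunc k] Ω, (∀ x, σ x = τ x) ∧ SGA7.IsInertia W σ := by
  obtain ⟨f, hf⟩ := exists_ratFunc_hom K h
  let σ : Ω ≃ₐ[RatFunc k] Ω := { (τ : Ω ≃+* Ω) with
    commutes' := fun x => by
      change τ (algebraMap (RatFunc k) Ω x) = algebraMap (RatFunc k) Ω x
      rw [← hf]
      exact τ.commutes _ }
  have hσ : ∀ x, σ x = τ x := fun _ => rfl
  refine ⟨σ, hσ, fun x hx => ⟨?_, ?_⟩⟩
  · rw [hσ]
    exact map_mem K h τ hx
  · obtain ⟨a, ha⟩ := exists_const K h x hx
    have h1 : σ x - x = τ (x - algebraMap R Ω (algebraMap k R a)) -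
        (x - algebraMap R Ω (algebraMap k R a)) := by
      rw [hσ, map_sub, IsScalarTower.algebraMap_apply R K Ω, τ.commutes]
      ring
    rw [h1]
    exact Valuation.map_sub_lt _ (map_lt K h τ ha) ha

end Groth.Agent.Lefpen.H370.InertiaAll
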