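import Groth.Agent.Lefpen.H370.SmoothRel
import Groth.Agent.Lefpen.H723.PencilSmooth

/-!
# The projection of a Lefschetz pencil: surjectivity, smooth locus, generic smoothness

`i : X ⟶ P^r_k` closed immersion, `X` irreducible and smooth of relative dimension `n ≥ 1`, `(b, ρ)` the total
space of a Lefschetz pencil.

* `exists_transversal`: a finite parameter with transversal member;
* `surjective_rho`;
* `mem_smoothLocus_of_transversal`, `mem_smoothLocus_of_generic`: points in transversal fibres and in the generic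
  fibre lie in the smooth locus of `ρ`;
* `relDim_smoothLocus`: `ρ` is smooth of relative dimension `n - 1` on its smooth locus.
-/

set_option autoImplicit false
universe u
open CategoryTheory AlgebraicGeometry Limits TopologicalSpace Opposite

namespace Groth.Agent.Lefpen.H370.RhoGeo

open LefPen Groth.Agent.Lefpen.H723.P1Pt Groth.Agent.Lefpen.H723.PencilGeom
  Groth.Agent.Lefpen.H723.PencilSmooth

variable {k : Type u} [Field k] [IsAlgClosed k] {r n d : ℕ} {X X' : Scheme.{u}}
  {i : X ⟶ CohB1.ProjSpace r k} {F G : Form r k d} {b : X' ⟶ X} {ρ : X' ⟶ CohB1.ProjSpace 1 k}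

omit [IsAlgClosed k] in
theorem smooth_of_transversal (hn : 1 ≤ n) {Y : Scheme.{u}} {g : Y ⟶ Spec (CommRingCat.of k)}
    (h : Transversal k n 1 g) : SmoothOfRelativeDimension (n - 1) g := by
  rcases h with ⟨-, h⟩ | ⟨h, -⟩
  · exact h
  · exact absurd h (by omega)

theorem exists_transversal (hL : IsLefschetzPencil k n i d F G) :
    ∃ c : k, Transversal k n 1 (secToSpec i {F + c • G}) := by
  have : Infinite k := IsAlgClosed.instInfinite
  obtain ⟨c, hc⟩ := hL.2.2.1.exists_notMem
  exact ⟨c, not_not.1 hc⟩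

variable [IsClosedImmersion i] [IrreducibleSpace X]
  [SmoothOfRelativeDimension n (i ≫ CohB1.ProjSpace.toSpec r k)]

theorem surjective_rho (hL : IsLefschetzPencil k n i d F G) (hρ : LefMon.IsPencilFibration i F G b ρ) :
    Function.Surjective ρ := by
  have h0 := isIntegral_total hL.2.1 hρ
  have h1 := isProper_rho hρ
  have h2 := rho_genericPoint (n := n) hL.2.1 (members_ne_bot (n := n) hL) hρ
  intro p
  have h3 : IsClosed (Set.range ρ) := ρ.isClosedMap.isClosed_range
  have h4 : Groth.Agent.Sga5.ProjConn.genPt 1 k ⤳ p :=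
    Groth.Agent.Sga4h.BidGeoP1.genPt_specializes k 1 p
  exact h4.mem_closed h3 ⟨_, h2⟩

omit [IsAlgClosed k] [IsClosedImmersion i] [IrreducibleSpace X]
  [SmoothOfRelativeDimension n (i ≫ CohB1.ProjSpace.toSpec r k)] in
/-- Points of a transversal fibre. -/
theorem mem_smoothLocus_of_transversal [LocallyOfFinitePresentation ρ] [Flat ρ] (hn : 1 ≤ n)
    (hρ : LefMon.IsPencilFibration i F G b ρ) {c : k} (hc : Transversal k n 1 (secToSpec i {F + c • G}))
    (w : X') (hw : ρ w ∈ Set.range (LefMon.fieldPt k k c)) : w ∈ ρ.smoothLocus := by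
  obtain ⟨m, -, hm⟩ := isPullback_line hρ c
  have h1 := smooth_of_transversal hn hc
  have h2 : Smooth (secToSpec i {F + c • G}) := SmoothOfRelativeDimension.smooth (n - 1) _
  have h3 : w ∈ Set.range m := by
    have h4 : m = hm.isoPullback.hom ≫ pullback.fst ρ (LefMon.fieldPt k k c) :=
      (hm.isoPullback_hom_fst).symm
    have h5 : w ∈ Set.range (pullback.fst ρ (LefMon.fieldPt k k c)) := by
      rw [Scheme.Pullback.range_fst]
      exact hw
    obtain ⟨y, rfl⟩ := h5
    refine ⟨hm.isoPullback.inv y, ?_⟩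
    rw [← Scheme.Hom.comp_apply, hm.isoPullback_inv_fst]
  obtain ⟨z, rfl⟩ := h3
  rw [fieldPt_eq] at hm
  rw [← mem_smoothLocus_iff hm]
  have h6 : z ∈ (secToSpec i {F + c • G}).smoothLocus := by
    rw [Scheme.Hom.smoothLocus_eq_top]
    trivial
  exact h6

/-- Points of the generic fibre. -/
theorem mem_smoothLocus_of_generic [LocallyOfFinitePresentation ρ] [Flat ρ] (hn : 1 ≤ n)
    (hL : IsLefschetzPencil k n i d F G) (hρ : LefMon.IsPencilFibration i F G b ρ) (z : X')
    (hz : ρ z = Groth.Agent.Sga5.ProjConn.genPt 1 k) : z ∈ ρ.smoothLocus := by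
  have h1 := isProper_rho hρ
  obtain ⟨c, hc⟩ := exists_transversal hL
  by_contra hzn
  have h3 : IsClosed (ρ '' (ρ.smoothLocus : Set X')ᶜ) := ρ.isClosedMap _ ρ.smoothLocus.2.isClosed_compl
  let p : CohB1.ProjSpace 1 k := LefMon.fieldPt k k c (IsLocalRing.closedPoint k)
  have h4 : Groth.Agent.Sga5.ProjConn.genPt 1 k ⤳ p :=
    Groth.Agent.Sga4h.BidGeoP1.genPt_specializes k 1 p
  obtain ⟨w, hw, hw2⟩ := h4.mem_closed h3 ⟨z, hzn, hz⟩
  apply hw
  exact mem_smoothLocus_of_transversal (n := n) hn hρ hc w ⟨_, hw2.symm⟩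

/-- `ρ` is smooth of relative dimension `n - 1` on its smooth locus. -/
theorem relDim_smoothLocus [LocallyOfFinitePresentation ρ] [Flat ρ] (hn : 1 ≤ n)
    (hL : IsLefschetzPencil k n i d F G) (hρ : LefMon.IsPencilFibration i F G b ρ) :
    SmoothOfRelativeDimension (n - 1) (ρ.smoothLocus.ι ≫ ρ) := by
  have h0 := isIntegral_total hL.2.1 hρ
  obtain ⟨c, hc⟩ := exists_transversal hL
  obtain ⟨m, -, hm⟩ := isPullback_line hρ c
  obtain ⟨w, hw⟩ := surjective_rho hL hρ (LefMon.fieldPt k k c (IsLocalRing.closedPoint k))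
  obtain ⟨z, hz, -⟩ := Scheme.exists_preimage_of_isPullback hm w (IsLocalRing.closedPoint k) hw
  refine SmoothRel.smoothOfRelativeDimension_smoothLocus ρ hm (n - 1) (smooth_of_transversal hn hc) z ?_
  rw [hz]
  exact mem_smoothLocus_of_transversal (n := n) hn hρ hc w ⟨_, hw.symm⟩

end Groth.Agent.Lefpen.H370.RhoGeo
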