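import Groth.Agent.Ega2.GeoRelDim
import Groth.Agent.CurvesB.NodalPoint

/-!
# The relative dimension on the smooth locus of a morphism with irreducible source
-/

set_option autoImplicit false

universe u

open CategoryTheory CategoryTheory.Limits AlgebraicGeometry

namespace Groth.Agent.Lefpen.H370.SmoothRel

variable {X S Z T : Scheme.{u}}

theorem comp_left {V W : Scheme.{u}} (j : W ⟶ V) [IsOpenImmersion j] (f : V ⟶ S) (m : ℕ)
    (h : SmoothOfRelativeDimension m f) : SmoothOfRelativeDimension m (j ≫ f) := by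
  have h3 : SmoothOfRelativeDimension (0 + m) (j ≫ f) := inferInstance
  rwa [Nat.zero_add] at h3

/-- Two charts of relative dimensions `m₁`, `m₂` through a common point. -/
theorem unique_of_mem {V₁ V₂ : Scheme.{u}} (j₁ : V₁ ⟶ X) (j₂ : V₂ ⟶ X) [IsOpenImmersion j₁]
    [IsOpenImmersion j₂] (f : X ⟶ S) (m₁ m₂ : ℕ) (h₁ : SmoothOfRelativeDimension m₁ (j₁ ≫ f))
    (h₂ : SmoothOfRelativeDimension m₂ (j₂ ≫ f)) (x : X) (hx₁ : x ∈ Set.range j₁)
    (hx₂ : x ∈ Set.range j₂) : m₁ = m₂ := by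
  obtain ⟨v₁, rfl⟩ := hx₁
  obtain ⟨v₂, hv⟩ := hx₂
  obtain ⟨z, -, -⟩ := Scheme.Pullback.exists_preimage_pullback (f := j₁) (g := j₂) v₁ v₂ hv.symm
  have e1 : SmoothOfRelativeDimension m₁ (pullback.fst j₁ j₂ ≫ j₁ ≫ f) := comp_left _ _ _ h₁
  have e2 : SmoothOfRelativeDimension m₂ (pullback.snd j₁ j₂ ≫ j₂ ≫ f) := comp_left _ _ _ h₂
  have e3 : pullback.snd j₁ j₂ ≫ j₂ ≫ f = pullback.fst j₁ j₂ ≫ j₁ ≫ f := by
    rw [← Category.assoc, ← pullback.condition, Category.assoc]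
  rw [e3] at e2
  exact Groth.Agent.Ega2.GeoRelDim.relDim_unique _ _ _ e1 e2 z

/-- The relative dimension of a chart can be read off on a base change. -/
theorem eq_of_isPullback {f : X ⟶ S} {g : T ⟶ S} {g' : Z ⟶ X} {f' : Z ⟶ T} (H : IsPullback g' f' f g)
    (n : ℕ) (hn : SmoothOfRelativeDimension n f') {V : Scheme.{u}} (j : V ⟶ X) [IsOpenImmersion j]
    (m : ℕ) (hm : SmoothOfRelativeDimension m (j ≫ f)) (z : Z) (hz : g' z ∈ Set.range j) : m = n := by
  obtain ⟨v, hv⟩ := hz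
  obtain ⟨w, -, -⟩ := Scheme.Pullback.exists_preimage_pullback (f := g') (g := j) z v hv.symm
  have e1 : SmoothOfRelativeDimension n (pullback.fst g' j ≫ f') := comp_left _ _ _ hn
  have h1 : IsPullback (pullback.snd g' j) (pullback.fst g' j) j g' :=
    (IsPullback.of_hasPullback g' j).flip
  have h2 : IsPullback (pullback.snd g' j) (pullback.fst g' j ≫ f') (j ≫ f) g := h1.paste_vert H
  exact Groth.Agent.Ega2.GeoRelDim.relDim_unique _ _ _
    (Groth.Agent.Ega2.GeoRelDim.relDim_of_isPullback h2 hm) e1 w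

/-- If the source is irreducible, the relative dimension on the smooth locus is constant. -/
theorem smoothOfRelativeDimension_smoothLocus [IrreducibleSpace X] (f : X ⟶ S)
    [LocallyOfFinitePresentation f] {g : T ⟶ S} {g' : Z ⟶ X} {f' : Z ⟶ T} (H : IsPullback g' f' f g)
    (n : ℕ) (hn : SmoothOfRelativeDimension n f') (z : Z) (hz : g' z ∈ f.smoothLocus) :
    SmoothOfRelativeDimension n (f.smoothLocus.ι ≫ f) := by
  have hsm : Smooth (f.smoothLocus.ι ≫ f) := VarietyA.SmoothLocusSch.smooth_smoothLocus_ι f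
  have key : ∀ x : f.smoothLocus.toScheme, ∃ V : f.smoothLocus.toScheme.Opens, x ∈ V ∧
      SmoothOfRelativeDimension n (V.ι ≫ f.smoothLocus.ι ≫ f) := by
    intro x
    obtain ⟨m, V, hx, hV⟩ := CurvesB.NodalPoint.exists_relDim (f.smoothLocus.ι ≫ f) x
    obtain ⟨m₀, V₀, hx₀, hV₀⟩ := CurvesB.NodalPoint.exists_relDim (f.smoothLocus.ι ≫ f) ⟨g' z, hz⟩
    rw [← Category.assoc] at hV hV₀
    have e0 : m₀ = n := eq_of_isPullback H n hn (V₀.ι ≫ f.smoothLocus.ι) m₀ hV₀ z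
      ⟨⟨⟨g' z, hz⟩, hx₀⟩, rfl⟩
    subst e0
    have hne : ((V.ι ≫ f.smoothLocus.ι).opensRange ⊓ (V₀.ι ≫ f.smoothLocus.ι).opensRange :
        Set X).Nonempty :=
      nonempty_preirreducible_inter (V.ι ≫ f.smoothLocus.ι).opensRange.2
        (V₀.ι ≫ f.smoothLocus.ι).opensRange.2 ⟨_, ⟨⟨x, hx⟩, rfl⟩⟩ ⟨_, ⟨⟨_, hx₀⟩, rfl⟩⟩
    obtain ⟨y, hy1, hy2⟩ := hne
    have e1 : m = m₀ := unique_of_mem (V.ι ≫ f.smoothLocus.ι) (V₀.ι ≫ f.smoothLocus.ι) f m m₀ hV hV₀ y
      hy1 hy2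
    subst e1
    exact ⟨V, hx, by rwa [Category.assoc] at hV⟩
  choose V hxV hV using key
  have := smoothOfRelativeDimension_isStableUnderBaseChange.{u} n
  rw [IsZariskiLocalAtSource.iff_of_iSup_eq_top (P := @SmoothOfRelativeDimension.{u} n) V
    (top_le_iff.1 fun x _ => TopologicalSpace.Opens.mem_iSup.2 ⟨x, hxV x⟩)]
  exact hV

/-- Base change of the smooth locus. -/
theorem of_le_smoothLocus {f : X ⟶ S} [LocallyOfFinitePresentation f] {g : T ⟶ S} {g' : Z ⟶ X} {f' : Z ⟶ T}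
    (H : IsPullback g' f' f g) (n : ℕ) (hn : SmoothOfRelativeDimension n (f.smoothLocus.ι ≫ f))
    (W : Z.Opens) (hW : ∀ z ∈ W, g' z ∈ f.smoothLocus) : SmoothOfRelativeDimension n (W.ι ≫ f') := by
  have hle : W ≤ g' ⁻¹ᵁ f.smoothLocus := hW
  have h1 : IsPullback (g' ∣_ f.smoothLocus) (g' ⁻¹ᵁ f.smoothLocus).ι f.smoothLocus.ι g' :=
    isPullback_morphismRestrict g' f.smoothLocus
  have h2 := h1.paste_vert H
  have h3 := Groth.Agent.Ega2.GeoRelDim.relDim_of_isPullback h2 hn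
  have h4 : W.ι ≫ f' = Z.homOfLE hle ≫ (g' ⁻¹ᵁ f.smoothLocus).ι ≫ f' := by
    rw [← Category.assoc, Scheme.homOfLE_ι]
  rw [h4]
  exact comp_left _ _ _ h3

/-- Base change contained in the smooth locus. -/
theorem of_forall_smoothLocus {f : X ⟶ S} [LocallyOfFinitePresentation f] {g : T ⟶ S} {g' : Z ⟶ X}
    {f' : Z ⟶ T} (H : IsPullback g' f' f g) (n : ℕ)
    (hn : SmoothOfRelativeDimension n (f.smoothLocus.ι ≫ f)) (hW : ∀ z, g' z ∈ f.smoothLocus) :
    SmoothOfRelativeDimension n f' := by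
  have h := of_le_smoothLocus H n hn ⊤ (fun z _ => hW z)
  have h2 : f' = Z.topIso.inv ≫ (⊤ : Z.Opens).ι ≫ f' := by
    rw [← Scheme.topIso_hom, Iso.inv_hom_id_assoc]
  rw [h2]
  exact comp_left _ _ _ h

end Groth.Agent.Lefpen.H370.SmoothRel
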